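import Groth.Agent.PnCoh.AmpleVanishing
import Groth.Agent.PnCoh.ProjectionFormula
import Groth.Agent.PnCoh.SectionsExact
import Groth.Agent.QCohMod.Coherent
import Groth.Agent.CohTwo.PushClosed
import Groth.Agent.RelTilde.Basic
import Groth.Agent.PropsBasic.AmpleUnivClosed
import Groth.Agent.PicAux.PullTensor
import Groth.Agent.PicAux.UnionGlue
import Groth.Agent.PicAux.GenLocusOps
import Groth.Agent.EulerDeg.LineBundle
import Groth.Agent.QCohMod.ClosedImm

/-!
# Lifting sections from closed subschemes proper over the base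

`A` ample on `X'` of finite type over a Noetherian affine scheme, `q : W' ⟶ X'` a closed immersion
with `W'` proper over the base. Sections of high powers of `A` on `W'` lift to sections on `X'` with
affine non-vanishing locus: embed `X'` in a projective space and lift to the closure, vanishing on
the boundary.
-/

universe u

open CategoryTheory CategoryTheory.Limits AlgebraicGeometry Opposite TopologicalSpace

set_option backward.isDefEq.respectTransparency.types false

set_option linter.style.haveILetI false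

noncomputable section

namespace Groth.AmpleFinite

open Groth.PicAux Groth.PropsBasic.Ample ZeroObject
open Groth.PicAux.UnionGlue (subsingleton_sections)

theorem pushUnit_oneSec {C P : Scheme.{u}} (c : C ⟶ P) (W : P.Opens) :
    (pushUnit c).app W (oneSec P W) = oneSec C (c ⁻¹ᵁ W) :=
  map_one (c.app W).hom

/-- The restriction of a global section tensored with `c_*O`. -/
theorem exists_restrIso {C P : Scheme.{u}} (c : C ⟶ P) {Q : P.Modules} (hQ : PicF.IsInvertible Q) :
    ∃ e : CohB1.tensorMod ((Scheme.Modules.pushforward c).obj (Coh.structureModule C)) Q ≅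
        (Scheme.Modules.pushforward c).obj ((Scheme.Modules.pullback c).obj Q),
      ∀ b : Γ(Q, ⊤), e.hom.app ⊤ (((DCoh.tensorRightMod Q).map (pushUnit c)).app ⊤
        (tmulSec (oneSec P ⊤) b)) = pullSec c Q b := by
  obtain ⟨θ, hθ⟩ := Groth.PnCoh.exists_projectionFormula c (Coh.structureModule C) hQ
  obtain ⟨v, hv⟩ := exists_leftUnitor ((Scheme.Modules.pullback c).obj Q)
  refine ⟨θ ≪≫ (Scheme.Modules.pushforward c).mapIso v, fun b => ?_⟩
  have h1 := tensorRightMod_map_tmulSec Q (pushUnit c) ⊤ (oneSec P ⊤) b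
  rw [pushUnit_oneSec] at h1
  refine (congrArg _ h1).trans ?_
  rw [Iso.trans_hom, Scheme.Modules.Hom.comp_app, ConcreteCategory.comp_apply, hθ]
  refine (hv (c ⁻¹ᵁ ⊤) (oneSec C (c ⁻¹ᵁ ⊤)) (pullSec c Q b)).trans ?_
  rw [toFun_oneSec, one_smul]

/-- Lifting sections from a closed subscheme, vanishing where a given submodule of `O` does. -/
theorem exists_lift_of_ample {R : Type u} [CommRing R] [IsNoetherianRing R] {P : Scheme.{u}}
    (f : P ⟶ Spec (CommRingCat.of R)) [IsProper f] {A₀ : P.Modules} (hA : CohB1.IsAmple A₀)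
    {C : Scheme.{u}} (c : C ⟶ P) [IsClosedImmersion c] {G : P.Modules} (hG : Coh.IsCoh G)
    (φ : G ⟶ Coh.structureModule P) [Epi (φ ≫ pushUnit c)] :
    ∃ n₀ : ℕ, ∀ n, n₀ ≤ n → ∀ y : Γ((Scheme.Modules.pullback c).obj (CohB1.tensorPow A₀ n), ⊤),
      ∃ b : Γ(CohB1.tensorPow A₀ n, ⊤), pullSec c _ b = y ∧
        ∀ {B : Scheme.{u}} (d : B ⟶ P), φ ≫ pushUnit d = 0 →
          pullSec d (CohB1.tensorPow A₀ n) b = 0 := by
  haveI : IsLocallyNoetherian P := LocallyOfFiniteType.isLocallyNoetherian f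
  haveI : IsLocallyNoetherian C := LocallyOfFiniteType.isLocallyNoetherian c
  have hOC : Coh.IsCoh (Coh.structureModule C) :=
    ⟨isQCoh_of_isInvertible (Groth.EulerDeg.isInvertible_structureModule C),
      Ega2Proj.isFT_of_isInvertible (Groth.EulerDeg.isInvertible_structureModule C)⟩
  haveI := (Groth.CohTwo.isCoh_push c hOC).1
  let ψ := φ ≫ pushUnit c
  have hK : Coh.IsCoh (kernel ψ) := Groth.QCohMod.isCoh_kernel ψ hG
  obtain ⟨n₀, hn₀⟩ := Groth.PnCoh.exists_subsingleton_of_isAmple f hA (kernel ψ) hK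
  refine ⟨n₀, fun n hn y => ?_⟩
  let Q := CohB1.tensorPow A₀ n
  have hQ : PicF.IsInvertible Q := isInvertible_tensorPow hA.1 n
  let qa := (DCoh.tensorRightMod Q).map ψ
  have hses := shortExact_tensorRightMod hQ
    (S := ShortComplex.mk (kernel.ι ψ) ψ (kernel.condition _))
    { exact := ShortComplex.exact_of_f_is_kernel _ (kernelIsKernel _)
      mono_f := inferInstance
      epi_g := inferInstance }
  haveI hqa : Epi qa := hses.epi_g
  have hker : Subsingleton (Coh.HH P (kernel qa) 1) :=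
    Groth.PnCoh.subsingleton_HH_of_iso f
      (hses.fIsKernel.conePointUniqueUpToIso (limit.isLimit _)) (hn₀ n hn 1 one_pos)
  have hsurj : Function.Surjective (qa.app ⊤) := fun z => by
    have h := Groth.PnCoh.exact_app_top_of_subsingleton f
      (ShortComplex.mk qa (0 : _ ⟶ (0 : P.Modules)) comp_zero)
      ((ShortComplex.exact_iff_epi _ rfl).2 hqa) hker
    exact (h z).1 rfl
  obtain ⟨e, he⟩ := exists_restrIso c hQ
  obtain ⟨u, hu⟩ := exists_leftUnitor Q
  let y' : Γ((Scheme.Modules.pushforward c).obj ((Scheme.Modules.pullback c).obj Q), ⊤) := y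
  obtain ⟨a, ha⟩ := hsurj (e.inv.app ⊤ y')
  let a₁ := ((DCoh.tensorRightMod Q).map φ).app ⊤ a
  let b : Γ(Q, ⊤) := u.hom.app ⊤ a₁
  have hb : a₁ = tmulSec (oneSec P ⊤) b := by
    have h1 : u.hom.app ⊤ (tmulSec (oneSec P ⊤) b) = u.hom.app ⊤ a₁ := by
      rw [hu, toFun_oneSec, one_smul]
    have h2 := congrArg (u.inv.app ⊤) h1
    rw [← ConcreteCategory.comp_apply, ← ConcreteCategory.comp_apply, ← Scheme.Modules.Hom.comp_app,
      u.hom_inv_id] at h2
    exact h2.symm
  have hcomp : ∀ {B : Scheme.{u}} (d : B ⟶ P),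
      ((DCoh.tensorRightMod Q).map (φ ≫ pushUnit d)).app ⊤ a =
        ((DCoh.tensorRightMod Q).map (pushUnit d)).app ⊤ (tmulSec (oneSec P ⊤) b) := by
    intro B d
    rw [← hb, Functor.map_comp, Scheme.Modules.Hom.comp_app, ConcreteCategory.comp_apply]
  refine ⟨b, ?_, fun {B} d hd => ?_⟩
  · rw [← he b, ← hcomp c]
    refine (congrArg _ ha).trans ?_
    exact congr(($(e.inv_hom_id)).app ⊤ y')
  · obtain ⟨e', he'⟩ := exists_restrIso d hQ
    rw [← he' b, ← hcomp d, hd, Functor.map_zero]
    exact map_zero _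

/-- Sections on a closed subscheme proper over the base lift to sections with affine locus. -/
theorem exists_lift_affine {R : Type u} [CommRing R] [IsNoetherianRing R] {X' : Scheme.{u}}
    (f : X' ⟶ Spec (CommRingCat.of R)) [LocallyOfFiniteType f] [QuasiCompact f] {A : X'.Modules}
    (hA : CohB1.IsAmple A) {W' : Scheme.{u}} (q : W' ⟶ X') [IsClosedImmersion q]
    [IsProper (q ≫ f)] :
    ∃ d n₀ : ℕ, 0 < d ∧ ∀ n, n₀ ≤ n →
      ∀ y : Γ((Scheme.Modules.pullback q).obj (CohB1.tensorPow A (d * n)), ⊤),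
        ∃ σ : Γ(CohB1.tensorPow A (d * n), ⊤), pullSec q _ σ = y ∧ IsAffineOpen (gloc σ) := by
  obtain ⟨m₀, hm₀⟩ := Groth.Chow.exists_isRelVeryAmplePn f hA
  obtain ⟨m, i₀, hi₀, hif₀, ⟨e₀⟩⟩ := hm₀ (m₀ + 1) (Nat.le_succ _)
  let i := i₀ ≫ (Groth.PnCoh.overIso m R).inv
  have hif : i ≫ CohB1.ProjSpace.toSpec m R = f := by
    rw [← (show i₀ ≫ CohB1.ProjSpaceOver.toBase m (Spec (CommRingCat.of R)) = f from hif₀)]
    simp only [i, Category.assoc]
    rw [← Groth.PnCoh.overIso_hom_toBase m R, Iso.inv_hom_id_assoc]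
  haveI : IsImmersion i := inferInstance
  haveI : QuasiCompact (i ≫ CohB1.ProjSpace.toSpec m R) := hif ▸ inferInstance
  haveI : IsProper (CohB1.ProjSpace.toSpec m R) := Groth.Variety2.isProper_projSpace_toSpec m R
  haveI : QuasiCompact i := QuasiCompact.of_comp i (CohB1.ProjSpace.toSpec m R)
  haveI := Groth.PnCoh.isLocallyNoetherian_projSpace m R
  -- the closure
  let p : i.image ⟶ Spec (CommRingCat.of R) := i.imageι ≫ CohB1.ProjSpace.toSpec m R
  let j : X' ⟶ i.image := i.toImage
  let A₀ : i.image.Modules := (Scheme.Modules.pullback i.imageι).obj (Twist.twistProjSpace m R 1)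
  have hA₀ : CohB1.IsAmple A₀ :=
    Groth.Chow.isAmple_pullback_of_isAffineHom i.imageι (Groth.Chow.isAmple_O1 m R)
  obtain ⟨e'⟩ := Groth.PnCoh.nonempty_pullback_overIso_twist m R 1
  have eA : CohB1.tensorPow A (m₀ + 1) ≅ (Scheme.Modules.pullback j).obj A₀ :=
    e₀ ≪≫ (Scheme.Modules.pullbackCongr (show i₀ = i ≫ (Groth.PnCoh.overIso m R).hom by simp [i])).app _ ≪≫
      ((Scheme.Modules.pullbackComp i (Groth.PnCoh.overIso m R).hom).app _).symm ≪≫
      (Scheme.Modules.pullback i).mapIso e' ≪≫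
      (Scheme.Modules.pullbackCongr (show i = j ≫ i.imageι from i.toImage_imageι.symm)).app _ ≪≫
      ((Scheme.Modules.pullbackComp j i.imageι).app _).symm
  haveI : CompactSpace i.image := QuasiCompact.compactSpace_of_compactSpace p
  -- the subscheme and the boundary
  have hjp : j ≫ p = f := by rw [← Category.assoc, Scheme.Hom.toImage_imageι, hif]
  let c : W' ⟶ i.image := q ≫ j
  haveI : IsProper (c ≫ p) := by rw [Category.assoc, hjp]; infer_instance
  haveI : IsProper c := IsProper.of_comp c p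
  haveI : IsClosedImmersion c := .of_isPreimmersion _ c.isClosedMap.isClosed_range
  let Bset : Closeds i.image := ⟨(Set.range j)ᶜ, j.isOpenEmbedding.isOpen_range.isClosed_compl⟩
  let IB := Scheme.IdealSheafData.vanishingIdeal Bset
  let b := IB.subschemeι
  have hbr : Set.range b = (Set.range j)ᶜ := by
    rw [Scheme.IdealSheafData.range_subschemeι, Scheme.IdealSheafData.coe_support_vanishingIdeal]
    rfl
  haveI : IsLocallyNoetherian i.image := LocallyOfFiniteType.isLocallyNoetherian p
  haveI : IsLocallyNoetherian IB.subscheme := LocallyOfFiniteType.isLocallyNoetherian b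
  have hOB : Coh.IsCoh (Coh.structureModule IB.subscheme) :=
    ⟨isQCoh_of_isInvertible (Groth.EulerDeg.isInvertible_structureModule _),
      Ega2Proj.isFT_of_isInvertible (Groth.EulerDeg.isInvertible_structureModule _)⟩
  haveI := (Groth.CohTwo.isCoh_push b hOB).1
  have hOP : Coh.IsCoh (Coh.structureModule i.image) :=
    ⟨isQCoh_of_isInvertible (Groth.EulerDeg.isInvertible_structureModule _),
      Ega2Proj.isFT_of_isInvertible (Groth.EulerDeg.isInvertible_structureModule _)⟩
  have hOW : Coh.IsCoh (Coh.structureModule W') := by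
    haveI : IsLocallyNoetherian W' := LocallyOfFiniteType.isLocallyNoetherian c
    exact ⟨isQCoh_of_isInvertible (Groth.EulerDeg.isInvertible_structureModule _),
      Ega2Proj.isFT_of_isInvertible (Groth.EulerDeg.isInvertible_structureModule _)⟩
  haveI := (Groth.CohTwo.isCoh_push c hOW).1
  let φ : kernel (pushUnit b) ⟶ Coh.structureModule i.image := kernel.ι _
  haveI : Epi (φ ≫ pushUnit c) := by
    refine Groth.RelTilde.epi_of_local _ fun V t x hxV => ?_
    by_cases hx : x ∈ Set.range j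
    · obtain ⟨W, hW, hxW, hWV⟩ := exists_isAffineOpen_mem_and_subset (x := x)
        (U := V ⊓ j.opensRange) ⟨hxV, hx⟩
      haveI := hOP.1
      haveI : Epi (pushUnit c) := by
        haveI : IsIso (pullUnit c) := isIso_pullUnit c
        have h := unit_pullUnit c
        haveI : Epi ((Scheme.Modules.pullbackPushforwardAdjunction c).unit.app
            (Coh.structureModule i.image)) := by
          refine Groth.RelTilde.epi_of_local _ fun U s z hzU => ?_
          obtain ⟨O, hO, hzO, hOU⟩ := exists_isAffineOpen_mem_and_subset (x := z) (U := U) hzU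
          exact ⟨O, hOU, hzO,
            (Groth.QCohMod.unit_closedImmersion_app c (Coh.structureModule i.image) hO).1 _⟩
        rw [← h]
        infer_instance
      obtain ⟨s, hs⟩ := Groth.QCohMod.app_surjective_of_epi (pushUnit c) hW
        (res _ (hWV.trans inf_le_left) t)
      haveI : Subsingleton Γ((Scheme.Modules.pushforward b).obj (Coh.structureModule IB.subscheme), W) := by
        refine subsingleton_sections (Coh.structureModule IB.subscheme) (U := b ⁻¹ᵁ W) fun z hz => ?_
        have h1 : b z ∈ (Set.range j)ᶜ := hbr ▸ ⟨z, rfl⟩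
        exact h1 (hWV hz).2
      obtain ⟨s', hs'⟩ : ∃ s' : Γ(kernel (pushUnit b), W), φ.app W s' = s :=
        Groth.QCohMod.exists_app_eq_of_mono_exact
          (ShortComplex.exact_of_f_is_kernel (ShortComplex.mk φ (pushUnit b) (kernel.condition _))
            (kernelIsKernel _)) W s (Subsingleton.elim _ _)
      refine ⟨W, hWV.trans inf_le_left, hxW, s', ?_⟩
      rw [Scheme.Modules.Hom.comp_app, ConcreteCategory.comp_apply, hs', hs]
    · let W : i.image.Opens := V ⊓ ⟨(Set.range c)ᶜ, c.isClosedEmbedding.isClosed_range.isOpen_compl⟩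
      have hxW : x ∈ W := ⟨hxV, fun ⟨w, hw⟩ => hx ⟨q w, hw⟩⟩
      refine ⟨W, inf_le_left, hxW, 0, ?_⟩
      haveI : Subsingleton Γ((Scheme.Modules.pushforward c).obj (Coh.structureModule W'), W) :=
        subsingleton_sections (Coh.structureModule W') (U := c ⁻¹ᵁ W) fun z hz => hz.2 ⟨z, rfl⟩
      exact Subsingleton.elim _ _
  have hG : Coh.IsCoh (kernel (pushUnit b)) := Groth.QCohMod.isCoh_kernel _ hOP
  obtain ⟨n₀, hn₀⟩ := exists_lift_of_ample p hA₀ c hG φ
  refine ⟨m₀ + 1, n₀ + 1, Nat.succ_pos _, fun n hn => ?_⟩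
  obtain ⟨e₁⟩ := tensorPow_mul A (m₀ + 1) n
  obtain ⟨e₂⟩ := nonempty_tensorPow_iso eA n
  obtain ⟨e₃⟩ := pullback_tensorPow j A₀ n
  let Φ : (Scheme.Modules.pullback j).obj (CohB1.tensorPow A₀ n) ≅
      CohB1.tensorPow A ((m₀ + 1) * n) := e₃ ≪≫ e₂.symm ≪≫ e₁.symm
  intro y
  let y₁ : Γ((Scheme.Modules.pullback c).obj (CohB1.tensorPow A₀ n), ⊤) :=
    ((Scheme.Modules.pullbackComp q j).hom.app _).app ⊤
      (((Scheme.Modules.pullback q).map Φ.inv).app ⊤ y)
  obtain ⟨σ₀, hσ, hσB⟩ := hn₀ n (Nat.le_of_succ_le hn) y₁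
  refine ⟨Φ.hom.app ⊤ (pullSec j _ σ₀), ?_, ?_⟩
  · have h1 : pullSec q _ (pullSec j _ σ₀) = ((Scheme.Modules.pullback q).map Φ.inv).app ⊤ y := by
      have h2 := (pullSec_comp q j (CohB1.tensorPow A₀ n) σ₀).trans hσ
      have h3 := congrArg (((Scheme.Modules.pullbackComp q j).inv.app _).app ⊤) h2
      have hid : ∀ z, ((Scheme.Modules.pullbackComp q j).inv.app (CohB1.tensorPow A₀ n)).app ⊤
          (((Scheme.Modules.pullbackComp q j).hom.app (CohB1.tensorPow A₀ n)).app ⊤ z) = z :=
        fun z => congr(($(Iso.hom_inv_id_app (Scheme.Modules.pullbackComp q j) _)).app ⊤ z)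
      exact ((hid _).symm.trans h3).trans (hid _)
    refine (pullSec_map q Φ.hom _).symm.trans ?_
    refine (congrArg _ h1).trans ?_
    exact congr(($(((Scheme.Modules.pullback q).mapIso Φ).inv_hom_id)).app ⊤ y)
  · rw [gloc_map Φ.hom]
    have hQ : PicF.IsInvertible (CohB1.tensorPow A₀ n) := isInvertible_tensorPow hA₀.1 n
    have hgj : gloc (pullSec j _ σ₀) = j ⁻¹ᵁ gloc σ₀ :=
      genLocus_pullback j hQ (homOfSection σ₀) (by rw [gsec_homOfSection, gsec_homOfSection])
    rw [hgj]
    have hle : gloc σ₀ ≤ j.opensRange := by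
      intro x hx
      by_contra hxj
      obtain ⟨z, rfl⟩ : x ∈ Set.range b := hbr ▸ hxj
      have hz0 : pullSec b _ σ₀ = 0 := hσB b (kernel.condition _)
      have hgb : gloc (pullSec b (CohB1.tensorPow A₀ n) σ₀) = b ⁻¹ᵁ gloc σ₀ :=
        genLocus_pullback b hQ (homOfSection σ₀) (by rw [gsec_homOfSection, gsec_homOfSection])
      have hz : z ∈ gloc (pullSec b (CohB1.tensorPow A₀ n) σ₀) := hgb ▸ hx
      rw [hz0] at hz
      obtain ⟨U, e, hzU, he⟩ := (isInvertible_iff_exists_gen _).1 (isInvertible_pullback b hQ) z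
      have h2 := (gloc_inf_eq_basicOpen he (c := 0)
        (t := (0 : Γ((Scheme.Modules.pullback b).obj (CohB1.tensorPow A₀ n), ⊤)))
        (by rw [res_zero, zero_smul])).le ⟨hz, hzU⟩
      simp at h2
    have haff : IsAffineOpen (gloc σ₀) := by
      exact isAffineOpen_gloc_of_universallyClosed p
        ((Groth.Ega2Proj.isAmple_tensorPow_iff hA₀.1 n (Nat.lt_of_lt_of_le (Nat.succ_pos _) hn)).1 hA₀) σ₀
    exact haff.preimage_of_isOpenImmersion j hle

end Groth.AmpleFinite
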