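import Groth.Agent.AmpleFinite.NormCongr
import Groth.Agent.AmpleFinite.LiftClosed
import Groth.Agent.Limits.AmpleFinite.Main
import Groth.Agent.Limits.AmpleThickening
import Groth.Agent.FlatMor2.Chevalley.Noetherian
import Groth.Agent.Divisors.IdealComap
import Groth.Agent.Flatmor4.ThickFT
import Groth.Agent.Ega2Proj.RelAmple
import Groth.Agent.Pi1Ample.FiniteAffine
import Groth.Agent.CohBase.FibreSections

/-!
# Ampleness descends along finite surjective morphisms, the bad locus being proper over the base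

EGA III 2.6.2 for reduced schemes over an affine base.
-/

universe u

open CategoryTheory CategoryTheory.Limits AlgebraicGeometry Opposite TopologicalSpace

set_option backward.isDefEq.respectTransparency.types false

set_option linter.style.haveILetI false

noncomputable section

namespace Groth.AmpleFinite

open Groth.PicAux Groth.Chow Groth.PropsBasic.Ample

/-- Transport of the loci of sections of iterated powers. -/
theorem exists_gloc_pow_eq {X : Scheme.{u}} {L : X.Modules} (a b N : ℕ) (hN : a * b = N)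
    (t : Γ(CohB1.tensorPow (CohB1.tensorPow L a) b, ⊤)) :
    ∃ t' : Γ(CohB1.tensorPow L N, ⊤), gloc t' = gloc t := by
  subst hN
  exact exists_gloc_transport a b t

theorem gloc_powSec {X : Scheme.{u}} {L : X.Modules} (hL : PicF.IsInvertible L) (t : Γ(L, ⊤))
    (n : ℕ) : gloc (powSec t (n + 1)) = gloc t := by
  have h := genLocus_powSec hL (homOfSection t) n
  rwa [gsec_homOfSection] at h

theorem gloc_pullSec {Y X : Scheme.{u}} (g : Y ⟶ X) {L : X.Modules} (hL : PicF.IsInvertible L)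
    (t : Γ(L, ⊤)) : gloc (pullSec g L t) = g ⁻¹ᵁ gloc t :=
  genLocus_pullback g hL (homOfSection t) (by rw [gsec_homOfSection, gsec_homOfSection])

theorem resX_app_of_eq {A B : Scheme.{u}} {a₁ a₂ : A ⟶ B} (h : a₁ = a₂) {U : B.Opens} {O : A.Opens}
    (e₁ : O ≤ a₁ ⁻¹ᵁ U) (e₂ : O ≤ a₂ ⁻¹ᵁ U) (r : Γ(B, U)) :
    resX A e₁ (a₁.app U r) = resX A e₂ (a₂.app U r) := by
  subst h
  rfl

/-- The inverse images of sections around a commutative square. -/
theorem exists_square_iso {A B C D : Scheme.{u}} {a : A ⟶ B} {b : B ⟶ D} {c : A ⟶ C} {d : C ⟶ D}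
    (h : a ≫ b = c ≫ d) (M : D.Modules) :
    ∃ Φ : (Scheme.Modules.pullback a).obj ((Scheme.Modules.pullback b).obj M) ≅
        (Scheme.Modules.pullback c).obj ((Scheme.Modules.pullback d).obj M),
      ∀ (U : D.Opens) (m : Γ(M, U)) (O : A.Opens) (e₁ : O ≤ a ⁻¹ᵁ b ⁻¹ᵁ U) (e₂ : O ≤ c ⁻¹ᵁ d ⁻¹ᵁ U),
        Φ.hom.app O (res _ e₁ (pullSec a _ (pullSec b M m))) =
          res _ e₂ (pullSec c _ (pullSec d M m)) := by
  let E := eqToIso (congrArg (fun φ => (Scheme.Modules.pullback φ).obj M) h)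
  refine ⟨(Scheme.Modules.pullbackComp a b).app M ≪≫ E ≪≫
    ((Scheme.Modules.pullbackComp c d).app M).symm, fun U m O e₁ e₂ => ?_⟩
  simp only [Iso.trans_hom, Iso.symm_hom, Iso.app_hom, Iso.app_inv, Scheme.Modules.Hom.comp_app,
    ConcreteCategory.comp_apply]
  rw [app_res, pullSec_comp a b M m]
  refine (congrArg _ (Groth.CohBase.eqToIso_pullback_pullSec h M (U := U) e₁ e₂ m)).trans ?_
  refine (app_res _ e₂ (pullSec (c ≫ d) M m)).trans ?_
  rw [← pullSec_comp c d M m]
  exact congrArg _ (congr(($(Iso.hom_inv_id_app (Scheme.Modules.pullbackComp c d) M)).app _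
    (pullSec c _ (pullSec d M m))))

section

variable {X' X : Scheme.{u}} (g : X' ⟶ X) (Z : Closeds X)

/-- Functions in the inverse image ideal are not units over the closed set. -/
theorem not_isUnit_germ_of_mem_map {V : X.Opens} (hV : IsAffineOpen V) {k : ℕ} (hk : 0 < k)
    {c : Γ(X', g ⁻¹ᵁ V)} (hc : c ∈
      (((Scheme.IdealSheafData.vanishingIdeal Z).ideal ⟨V, hV⟩) ^ k).map (g.app V).hom)
    {y : X'} (hy : g y ∈ V) (hyZ : g y ∈ Z) :
    ¬ IsUnit (X'.presheaf.germ (g ⁻¹ᵁ V) y hy c) := by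
  let J := (Scheme.IdealSheafData.vanishingIdeal Z).ideal ⟨V, hV⟩
  have hle : (J ^ k).map (g.app V).hom ≤
      (IsLocalRing.maximalIdeal (X'.presheaf.stalk y)).comap (X'.presheaf.germ (g ⁻¹ᵁ V) y hy).hom := by
    refine (Ideal.map_mono (Ideal.pow_le_self hk.ne')).trans (Ideal.map_le_iff_le_comap.2 ?_)
    intro x hx
    change X'.presheaf.germ (g ⁻¹ᵁ V) y hy (g.app V x) ∈ IsLocalRing.maximalIdeal _
    rw [IsLocalRing.mem_maximalIdeal, mem_nonunits_iff, ← X'.mem_basicOpen _ _ hy,
      ← Scheme.preimage_basicOpen]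
    intro hyx
    have hq : hV.fromSpec (hV.primeIdealOf ⟨g y, hy⟩) = g y := hV.fromSpec_primeIdealOf ⟨g y, hy⟩
    have h2 : hV.primeIdealOf ⟨g y, hy⟩ ∈ hV.fromSpec ⁻¹ᵁ X.basicOpen x := by
      change hV.fromSpec _ ∈ X.basicOpen x
      rw [hq]
      exact hyx
    rw [hV.fromSpec_preimage_basicOpen] at h2
    refine h2 ((PrimeSpectrum.mem_vanishingIdeal _ _).1 hx _ ?_)
    change hV.fromSpec _ ∈ Z
    rw [hq]
    exact hyZ
  exact (IsLocalRing.mem_maximalIdeal _).1 (hle hc)

/-- Functions vanishing over the closed set are nilpotent modulo its inverse image ideal. -/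
theorem mem_radical_map [IsAffineHom g] {V : X.Opens} (hV : IsAffineOpen V) (c : Γ(X', g ⁻¹ᵁ V))
    (hc : ∀ y ∈ X'.basicOpen c, g y ∉ Z) :
    c ∈ (((Scheme.IdealSheafData.vanishingIdeal Z).ideal ⟨V, hV⟩).map (g.app V).hom).radical := by
  let J := (Scheme.IdealSheafData.vanishingIdeal Z).ideal ⟨V, hV⟩
  rw [Ideal.radical_eq_sInf]
  refine Submodule.mem_sInf.2 fun (q : Ideal Γ(X', g ⁻¹ᵁ V)) hq => ?_
  haveI := hq.2
  have hA : IsAffineOpen (g ⁻¹ᵁ V) := hV.preimage g
  let q' : PrimeSpectrum Γ(X', g ⁻¹ᵁ V) := ⟨q, hq.2⟩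
  have hyV : g (hA.fromSpec q') ∈ V := hA.range_fromSpec.le ⟨q', rfl⟩
  by_contra hcq
  have hy : hA.fromSpec q' ∈ X'.basicOpen c := by
    change q' ∈ hA.fromSpec ⁻¹ᵁ X'.basicOpen c
    rw [hA.fromSpec_preimage_basicOpen]
    exact hcq
  refine hc _ hy ?_
  let q₀ := hV.primeIdealOf ⟨g (hA.fromSpec q'), hyV⟩
  have hq₀ : hV.fromSpec q₀ = g (hA.fromSpec q') := hV.fromSpec_primeIdealOf ⟨_, hyV⟩
  have hJ : q₀ ∈ PrimeSpectrum.zeroLocus (J : Set Γ(X, V)) := by
    intro x hx
    by_contra hxq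
    have h1 : g (hA.fromSpec q') ∈ X.basicOpen x := by
      rw [← hq₀]
      change q₀ ∈ hV.fromSpec ⁻¹ᵁ X.basicOpen x
      rw [hV.fromSpec_preimage_basicOpen]
      exact hxq
    have h2 : hA.fromSpec q' ∈ X'.basicOpen (g.app V x) := by
      rw [← Scheme.preimage_basicOpen]
      exact h1
    have h3 : q' ∈ hA.fromSpec ⁻¹ᵁ X'.basicOpen (g.app V x) := h2
    rw [hA.fromSpec_preimage_basicOpen] at h3
    exact h3 (hq.1 (Ideal.mem_map_of_mem _ hx))
  rw [show J = PrimeSpectrum.vanishingIdeal (hV.fromSpec ⁻¹' (Z : Set X)) from rfl,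
    PrimeSpectrum.zeroLocus_vanishingIdeal_eq_closure] at hJ
  exact hq₀ ▸ (Z.isClosed.preimage hV.fromSpec.continuous).closure_subset hJ

end

/-- Over a reduced scheme: ampleness descends along a finite surjective morphism, the locus where the
scheme is not normal nor the morphism free being proper over the affine base. -/
theorem isAmple_of_pullback_reduced {R : Type u} [CommRing R] [IsNoetherianRing R] {X' X : Scheme.{u}}
    [IsReduced X] (f : X ⟶ Spec (CommRingCat.of R)) [LocallyOfFiniteType f] [QuasiCompact f]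
    (g : X' ⟶ X) [IsFinite g] [Surjective g] (Z : Closeds X)
    [IsProper ((Scheme.IdealSheafData.vanishingIdeal Z).subschemeι ≫ f)]
    (hX : ∀ z : X, z ∉ Z → (IsDomain (X.presheaf.stalk z) ∧ IsIntegrallyClosed (X.presheaf.stalk z)) ∨
      ∃ (W : X.Opens) (n : ℕ) (b : Fin n → Γ(X', g ⁻¹ᵁ W)), z ∈ W ∧ SecBasis g W b)
    {L : X.Modules} (hL : PicF.IsInvertible L)
    (hA : CohB1.IsAmple ((Scheme.Modules.pullback g).obj L)) : CohB1.IsAmple L := by
  classical
  haveI : IsLocallyNoetherian X := LocallyOfFiniteType.isLocallyNoetherian f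
  haveI : CompactSpace X := QuasiCompact.compactSpace_of_compactSpace f
  haveI : IsNoetherian X := ⟨⟩
  -- a finite trivialising cover
  choose U₀ e₀ hU₀ hxU₀ he₀ using fun x : X => exists_affine_gen_mem hL x
  obtain ⟨T, hT⟩ := isCompact_univ.elim_finite_subcover (fun x => (U₀ x : Set X))
    (fun x => (U₀ x).2) (fun x _ => Set.mem_iUnion.mpr ⟨x, hxU₀ x⟩)
  let κ := {x // x ∈ T}
  let V : κ → X.Opens := fun i => U₀ i.1
  let e : ∀ i : κ, Γ(L, V i) := fun i => e₀ i.1
  have hV : ∀ i, IsAffineOpen (V i) := fun i => hU₀ i.1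
  have he : ∀ i, Gen L (V i) (e i) := fun i => he₀ i.1
  have hcov : ∀ x : X, ∃ i, x ∈ V i := fun x => by
    obtain ⟨y, hy, hxy⟩ := Set.mem_iUnion₂.mp (hT (Set.mem_univ x))
    exact ⟨⟨y, hy⟩, hxy⟩
  obtain ⟨k, hk⟩ := exists_norm_sec_congr g Z hX V hV hcov
  let I := Scheme.IdealSheafData.vanishingIdeal Z
  refine ⟨hL, inferInstance, fun x => ?_⟩
  suffices h : ∃ (N : ℕ) (t : Γ(CohB1.tensorPow L N, ⊤)), 0 < N ∧ x ∈ gloc t ∧
      IsAffineOpen (gloc t) by
    obtain ⟨N, t, hN, hxt, ht⟩ := h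
    obtain ⟨n, rfl⟩ := Nat.exists_eq_succ_of_ne_zero hN.ne'
    exact ⟨n, homOfSection t, hxt, ht⟩
  by_cases hxZ : x ∈ Z
  · -- lift from the thickened closed set
    let J := I ^ (k + 1)
    let w := J.subschemeι
    have hsupp : Set.range w = (Z : Set X) := by
      rw [Scheme.IdealSheafData.range_subschemeι, Scheme.IdealSheafData.support_pow_succ,
        Scheme.IdealSheafData.coe_support_vanishingIdeal]
    have hJI : J ≤ I := by
      intro U
      rw [Scheme.IdealSheafData.ideal_pow]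
      exact Ideal.pow_le_self k.succ_ne_zero
    let ι₁ : I.subscheme ⟶ J.subscheme := Scheme.IdealSheafData.inclusion hJI
    have hι₁ : ι₁ ≫ w = I.subschemeι := Scheme.IdealSheafData.inclusion_subschemeι hJI
    haveI : IsClosedImmersion ι₁ := by
      haveI : IsClosedImmersion (ι₁ ≫ w) := by rw [hι₁]; infer_instance
      exact IsClosedImmersion.of_comp ι₁ w
    haveI : Surjective ι₁ := ⟨fun a => by
      have h1 : w a ∈ Set.range I.subschemeι := by
        rw [Scheme.IdealSheafData.range_subschemeι, Scheme.IdealSheafData.coe_support_vanishingIdeal,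
          ← hsupp]
        exact ⟨a, rfl⟩
      obtain ⟨b, hb⟩ := h1
      refine ⟨b, w.isClosedEmbedding.injective ?_⟩
      rw [← hb, ← hι₁]
      rfl⟩
    haveI : UniversallyClosed (w ≫ f) := by
      haveI : UniversallyClosed (ι₁ ≫ w ≫ f) := by
        rw [← Category.assoc, hι₁]
        infer_instance
      exact UniversallyClosed.of_comp_surjective ι₁ _
    haveI : IsSeparated (ι₁ ≫ w ≫ f) := by
      rw [← Category.assoc, hι₁]
      infer_instance
    haveI : IsSeparated (w ≫ f) :=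
      Groth.Flatmor4.isSeparated_of_thickening (w ≫ f) (ι₁ ≫ w ≫ f) ι₁ (𝟙 _) (Category.comp_id _)
    haveI : IsProper (w ≫ f) := {}
    let qW := pullback.fst g w
    let pW := pullback.snd g w
    have hsq : pW ≫ w = qW ≫ g := pullback.condition.symm
    haveI : IsProper (qW ≫ g ≫ f) := by
      rw [← Category.assoc, ← hsq, Category.assoc]
      infer_instance
    obtain ⟨d, n₀, hd, hlift⟩ := exists_lift_affine (g ≫ f) hA qW
    -- `L` is ample on the thickening
    have hw : CohB1.IsAmple ((Scheme.Modules.pullback w).obj L) := by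
      refine Groth.Limits.AmpleFinite.isAmple_of_pullback (w ≫ f) pW (isInvertible_pullback w hL) ?_
      obtain ⟨Φ, -⟩ := exists_square_iso hsq L
      exact Groth.Chow.isAmple_of_iso Φ.symm (Groth.Chow.isAmple_pullback_of_isAffineHom qW hA)
    haveI : CompactSpace J.subscheme := hw.2.1
    obtain ⟨a, rfl⟩ : x ∈ Set.range w := hsupp.ge hxZ
    have hwd := (Groth.Ega2Proj.isAmple_tensorPow_iff hw.1 d hd).1 hw
    obtain ⟨m, τ₀, hτ₀, -⟩ := hwd.2.2 a
    let n := (m + 1) * (n₀ + 1)
    have hn : n₀ ≤ n :=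
      (Nat.le_succ n₀).trans (Nat.le_mul_of_pos_left (n₀ + 1) (Nat.succ_pos m))
    let M := CohB1.tensorPow L (d * n)
    have hM : PicF.IsInvertible M := isInvertible_tensorPow hL _
    obtain ⟨τ, hτ⟩ : ∃ τ : Γ((Scheme.Modules.pullback w).obj M, ⊤), a ∈ gloc τ := by
      obtain ⟨u, hu⟩ := exists_gloc_transport (m + 1) (n₀ + 1) (powSec (gsec τ₀) (n₀ + 1))
      obtain ⟨u', hu'⟩ := exists_gloc_pow_eq d n (d * n) rfl u
      obtain ⟨φ⟩ := pullback_tensorPow w L (d * n)
      refine ⟨φ.inv.app ⊤ u', ?_⟩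
      rw [gloc_map, hu', hu, gloc_powSec (isInvertible_tensorPow hwd.1 _)]
      change a ∈ CohB1.genLocus _ (homOfSection (gsec τ₀))
      rwa [genLocus_congr (gsec_homOfSection _)]
    obtain ⟨π⟩ := pullback_tensorPow g L (d * n)
    obtain ⟨Φ, hΦ⟩ := exists_square_iso hsq M
    let τ' := Φ.hom.app ⊤ (pullSec pW _ τ)
    obtain ⟨σ, hσ, hσaff⟩ := hlift n hn (((Scheme.Modules.pullback qW).map π.hom).app ⊤ τ')
    let s : Γ((Scheme.Modules.pullback g).obj M, ⊤) := π.inv.app ⊤ σ
    have hs : pullSec qW _ s = τ' := by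
      rw [← pullSec_map qW π.inv σ]
      refine (congrArg _ hσ).trans ?_
      exact congr(($(((Scheme.Modules.pullback qW).mapIso π).hom_inv_id)).app ⊤ τ')
    have hgen : ∀ i, Gen M (V i) (powSec (e i) (d * n)) := fun i => (he i).pow _
    choose c hc using fun i => ((hgen i).pull g).exists_coeff le_rfl
      (res _ (le_top : g ⁻¹ᵁ V i ≤ ⊤) s)
    choose rb hrb using fun i => ((hgen i).pull w).exists_coeff le_rfl
      (res _ (le_top : w ⁻¹ᵁ V i ≤ ⊤) τ)
    simp only [res_self] at hc hrb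
    choose r hr using fun i => w.app_surjective (V i) (hV i) (rb i)
    have hcr : ∀ i, c i - g.app (V i) (r i) ∈
        (((Scheme.IdealSheafData.vanishingIdeal Z).ideal ⟨V i, hV i⟩) ^ (k + 1)).map
          (g.app (V i)).hom := by
      intro i
      let O := qW ⁻¹ᵁ g ⁻¹ᵁ V i
      have hOp : O ≤ pW ⁻¹ᵁ w ⁻¹ᵁ V i := by
        change (qW ≫ g) ⁻¹ᵁ V i ≤ (pW ≫ w) ⁻¹ᵁ V i
        rw [hsq]
      have h1 : res _ (le_top : O ≤ qW ⁻¹ᵁ ⊤) (pullSec qW _ s) =
          qW.app _ (c i) • pullSec qW _ (pullSec g M (powSec (e i) (d * n))) := by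
        rw [← pullSec_smul, ← hc i]
        exact res_pullSec qW _ (le_top : g ⁻¹ᵁ V i ≤ ⊤) s
      have h2 : res _ (le_top : O ≤ pW ⁻¹ᵁ ⊤) (pullSec pW _ τ) =
          resX _ hOp (pW.app _ (rb i)) •
            res _ hOp (pullSec pW _ (pullSec w M (powSec (e i) (d * n)))) := by
        rw [← res_smul, ← pullSec_smul, ← hrb i, ← res_pullSec pW _ (le_top : w ⁻¹ᵁ V i ≤ ⊤) τ,
          res_res]
        rfl
      have h3 : res _ (le_top : O ≤ qW ⁻¹ᵁ ⊤) (pullSec qW _ s) =
          resX _ hOp (pW.app _ (rb i)) •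
            pullSec qW _ (pullSec g M (powSec (e i) (d * n))) := by
        rw [hs]
        refine (app_res Φ.hom (le_top : O ≤ ⊤) (pullSec pW _ τ)).symm.trans ?_
        refine (congrArg _ h2).trans ?_
        rw [Scheme.Modules.Hom.app_smul, hΦ _ (powSec (e i) (d * n)) O hOp le_rfl, res_self]
      have hgp : Gen _ O (pullSec qW _ (pullSec g M (powSec (e i) (d * n)))) :=
        ((hgen i).pull g).pull qW
      have h4 : qW.app _ (c i) = qW.app _ (g.app (V i) (r i)) := by
        refine hgp.smul_inj le_rfl ?_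
        rw [res_self, ← h1, h3, ← hr i]
        congr 1
        have h5 := resX_app_of_eq hsq (U := V i) (O := O) hOp le_rfl (r i)
        exact h5.trans (resX_self _ _)
      have h6 : c i - g.app (V i) (r i) ∈ qW.ker.ideal ⟨g ⁻¹ᵁ V i, (hV i).preimage g⟩ := by
        rw [Scheme.Hom.ker_apply, RingHom.mem_ker, map_sub]
        exact sub_eq_zero.2 h4
      rw [show qW.ker = J.comap g from rfl,
        Groth.Divisors.ideal_comap_affine J g ⟨V i, hV i⟩ ⟨g ⁻¹ᵁ V i, (hV i).preimage g⟩ le_rfl,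
        ← Scheme.Hom.app_eq_appLE, Scheme.IdealSheafData.ideal_pow] at h6
      exact h6
    obtain ⟨D, t, hD, hZ, -, -, hdom⟩ := hk (k + 1) k.le_succ M (fun i => powSec (e i) (d * n))
      hgen s r c hc hcr
    refine ⟨d * n * D, ?_⟩
    obtain ⟨t', ht'⟩ := exists_gloc_transport (d * n) D t
    refine ⟨t', by positivity, ?_, ?_⟩
    · rw [ht']
      obtain ⟨i, hi⟩ := hcov (w a)
      rw [hZ i (w a) hi hxZ, ← X.mem_basicOpen _ _ hi]
      change a ∈ w ⁻¹ᵁ X.basicOpen (r i)
      rw [Scheme.preimage_basicOpen, hr i, ← gloc_inf_eq_basicOpen ((hgen i).pull w) (hrb i)]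
      exact ⟨hτ, hi⟩
    · rw [ht']
      -- the part of `X'` above the generic points
      let G₀ : Set X' := g ⁻¹' {η | IsGen η}
      have hG₀ : G₀.Finite :=
        (Set.Finite.biUnion (finite_isGen (X := X)) fun η _ => g.finite_preimage_singleton η).subset
          fun y hy => Set.mem_biUnion (x := g y) hy rfl
      let C : Closeds X' := ⟨closure G₀, isClosed_closure⟩
      have hCdom : ∀ y ∈ C, Dom g y := by
        intro y hy
        have h1 : closure G₀ = ⋃ z ∈ G₀, closure {z} := by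
          conv_lhs => rw [← Set.biUnion_of_singleton G₀]
          rw [hG₀.closure_biUnion]
        rw [← SetLike.mem_coe] at hy
        change y ∈ closure G₀ at hy
        rw [h1] at hy
        obtain ⟨z, hz, hzy⟩ := Set.mem_iUnion₂.1 hy
        exact ⟨z, hz, specializes_iff_mem_closure.2 hzy⟩
      let c₂ := (Scheme.IdealSheafData.vanishingIdeal C).subschemeι
      have hc₂ : Set.range c₂ = (C : Set X') := by
        rw [Scheme.IdealSheafData.range_subschemeι, Scheme.IdealSheafData.coe_support_vanishingIdeal]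
      haveI : Surjective (c₂ ≫ g) := ⟨fun z => by
        obtain ⟨η, hη, hηz⟩ := exists_isGen_specializes z
        obtain ⟨y₀, rfl⟩ := g.surjective η
        have hz : z ∈ g '' closure {y₀} := by
          refine closure_minimal ?_ (g.isClosedMap _ isClosed_closure)
            (specializes_iff_mem_closure.1 hηz)
          rintro _ rfl
          exact ⟨y₀, subset_closure rfl, rfl⟩
        obtain ⟨y, hy, rfl⟩ := hz
        obtain ⟨b, rfl⟩ : y ∈ Set.range c₂ :=
          hc₂.ge (closure_mono (Set.singleton_subset_iff.2 hη) hy)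
        exact ⟨b, rfl⟩⟩
      have hkey : ∀ y ∈ C, g y ∈ gloc t → y ∈ gloc s := by
        intro y hy hyt
        by_cases hyZ : g y ∈ Z
        · obtain ⟨i, hi⟩ := hcov (g y)
          have h1 : IsUnit (X.presheaf.germ (V i) (g y) hi (r i)) := (hZ i (g y) hi hyZ).1 hyt
          have h2 : y ∈ X'.basicOpen (g.app (V i) (r i)) := by
            rw [← Scheme.preimage_basicOpen]
            exact (X.mem_basicOpen _ _ hi).2 h1
          have h3 := not_isUnit_germ_of_mem_map g Z (hV i) k.succ_pos (hcr i) hi hyZ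
          have h4 : y ∈ X'.basicOpen (c i) := by
            rw [X'.mem_basicOpen _ _ hi] at h2 ⊢
            by_contra h5
            rw [map_sub] at h3
            rw [← mem_nonunits_iff, ← IsLocalRing.mem_maximalIdeal] at h3 h5
            exact (IsLocalRing.mem_maximalIdeal _).1 (by simpa using sub_mem h5 h3) h2
          rw [← gloc_inf_eq_basicOpen ((hgen i).pull g) (hc i)] at h4
          exact h4.1
        · exact hdom y hyZ (hCdom y hy) hyt
      have hsaff : IsAffineOpen (gloc s) := by rw [gloc_map]; exact hσaff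
      have hsrc : IsAffineOpen ((c₂ ≫ g) ⁻¹ᵁ gloc t) := by
        have h1 : (c₂ ≫ g) ⁻¹ᵁ gloc t = c₂ ⁻¹ᵁ (gloc (pullSec g _ t) ⊓ gloc s) := by
          ext y
          rw [gloc_pullSec g (isInvertible_tensorPow hM D)]
          exact ⟨fun h => ⟨h, hkey _ (hc₂.le ⟨y, rfl⟩) h⟩, fun h => h.1⟩
        rw [h1]
        exact (isAffineOpen_gloc_inf (isInvertible_pullback g (isInvertible_tensorPow hM D))
          (homOfSection _) hsaff).preimage c₂
      haveI : IsAffine ((c₂ ≫ g) ⁻¹ᵁ gloc t).toScheme := hsrc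
      haveI : IsFinite ((c₂ ≫ g) ∣_ gloc t) :=
        IsZariskiLocalAtTarget.restrict (P := @IsFinite) inferInstance _
      haveI : Surjective ((c₂ ≫ g) ∣_ gloc t) :=
        IsZariskiLocalAtTarget.restrict (P := @Surjective) inferInstance _
      haveI : IsLocallyNoetherian (gloc t).toScheme :=
        LocallyOfFiniteType.isLocallyNoetherian (gloc t).ι
      haveI : CompactSpace (gloc t).toScheme := ⟨by
        rw [← Set.image_univ_of_surjective ((c₂ ≫ g) ∣_ gloc t).surjective]
        exact isCompact_univ.image ((c₂ ≫ g) ∣_ gloc t).continuous⟩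
      haveI : IsNoetherian (gloc t).toScheme := ⟨⟩
      exact Groth.FlatMor2.Chevalley.isAffine_of_finite_surjective ((c₂ ≫ g) ∣_ gloc t)
  · -- away from the closed set: norms of sections vanishing to high order over it
    obtain ⟨O, hO, hxO, hOZ⟩ := exists_isAffineOpen_mem_and_subset (x := x)
      (U := (⟨(Z : Set X)ᶜ, Z.isClosed.isOpen_compl⟩ : X.Opens)) hxZ
    obtain ⟨N, t₀, hZt, htO, -⟩ := exists_affine_gloc_finite hA (g ⁻¹' {x})
      (g.finite_preimage_singleton x) (g ⁻¹ᵁ O) (fun y hy => show g y ∈ O from hy ▸ hxO)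
    choose c₀ hc₀ using fun i => (((he i).pull g).pow (N + 1)).exists_coeff le_rfl
      (res _ (le_top : g ⁻¹ᵁ V i ≤ ⊤) t₀)
    simp only [res_self] at hc₀
    have hrad : ∀ i, ∃ p : ℕ, c₀ i ^ p ∈
        ((Scheme.IdealSheafData.vanishingIdeal Z).ideal ⟨V i, hV i⟩).map (g.app (V i)).hom := by
      intro i
      refine mem_radical_map g Z (hV i) (c₀ i) fun y hy hyZ => hOZ (htO ?_) hyZ
      rw [← gloc_inf_eq_basicOpen (((he i).pull g).pow (N + 1)) (hc₀ i)] at hy
      exact hy.1
    choose p hp using hrad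
    let P := (Finset.univ.sup p + 1) * (k + 1)
    obtain ⟨P', hP'⟩ := Nat.exists_eq_succ_of_ne_zero (show P ≠ 0 by positivity)
    let M := CohB1.tensorPow L ((N + 1) * P)
    have hM : PicF.IsInvertible M := isInvertible_tensorPow hL _
    obtain ⟨π⟩ := pullback_tensorPow g L ((N + 1) * P)
    obtain ⟨π₁⟩ := tensorPow_mul ((Scheme.Modules.pullback g).obj L) (N + 1) P
    let Φ := π₁.symm ≪≫ π.symm
    let s : Γ((Scheme.Modules.pullback g).obj M, ⊤) := Φ.hom.app ⊤ (powSec t₀ P)
    have hgls : gloc s = gloc t₀ := by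
      rw [gloc_map Φ.hom, hP']
      exact gloc_powSec (isInvertible_tensorPow hA.1 _) t₀ P'
    have hgen : ∀ i, Gen M (V i) (powSec (e i) ((N + 1) * P)) := fun i => (he i).pow _
    choose c hc using fun i => ((hgen i).pull g).exists_coeff le_rfl
      (res _ (le_top : g ⁻¹ᵁ V i ≤ ⊤) s)
    simp only [res_self] at hc
    have hcr : ∀ i, c i - g.app (V i) 0 ∈
        (((Scheme.IdealSheafData.vanishingIdeal Z).ideal ⟨V i, hV i⟩) ^ (k + 1)).map
          (g.app (V i)).hom := by
      intro i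
      rw [map_zero, sub_zero, Ideal.map_pow]
      obtain ⟨a, ha⟩ := ((hgen i).pull g).exists_coeff le_rfl
        (Φ.hom.app _ (powSec (powSec (pullSec g L (e i)) (N + 1)) P))
      rw [res_self] at ha
      have h1 : res _ (le_top : g ⁻¹ᵁ V i ≤ ⊤) s =
          (c₀ i ^ P * a) • pullSec g M (powSec (e i) ((N + 1) * P)) := by
        rw [mul_smul, ← ha, ← Scheme.Modules.Hom.app_smul, ← powSec_smul, ← hc₀ i, ← res_powSec]
        exact (app_res Φ.hom _ _).symm
      have h2 : c i = c₀ i ^ P * a := by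
        refine ((hgen i).pull g).smul_inj le_rfl ?_
        rw [res_self, ← hc i, h1]
      rw [h2]
      refine Ideal.mul_mem_right _ _ ?_
      rw [show P = (Finset.univ.sup p + 1) * (k + 1) from rfl, pow_mul]
      refine Ideal.pow_mem_pow ?_ _
      have hpi : p i ≤ Finset.univ.sup p + 1 :=
        (Finset.le_sup (f := p) (Finset.mem_univ i)).trans (Nat.le_succ _)
      obtain ⟨j, hj⟩ := Nat.le.dest hpi
      rw [← hj, pow_add]
      exact Ideal.mul_mem_right _ _ (hp i)
    obtain ⟨D, t, hD, hZ, h1, h2, -⟩ := hk (k + 1) k.le_succ M (fun i => powSec (e i) ((N + 1) * P))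
      hgen s (fun _ => 0) c hc hcr
    obtain ⟨t', ht'⟩ := exists_gloc_transport ((N + 1) * P) D t
    have hle : gloc t ≤ O := fun z hz => by
      by_contra hzO
      by_cases hzZ : z ∈ Z
      · obtain ⟨i, hi⟩ := hcov z
        have := (hZ i z hi hzZ).1 hz
        rw [map_zero] at this
        exact not_isUnit_zero this
      · exact h2 z hzZ (fun y hy hys => hzO (hy ▸ htO (hgls ▸ hys))) hz
    refine ⟨(N + 1) * P * D, t', by positivity, ?_, ?_⟩
    · rw [ht']
      exact h1 x hxZ fun y hy => hgls.symm ▸ hZt hy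
    · rw [ht', ← inf_eq_left.2 hle]
      exact isAffineOpen_gloc_inf (isInvertible_tensorPow hM D) (homOfSection t) hO

end Groth.AmpleFinite
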