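import Mathlib

/-!
# Polynomial maps into fields near a closed subset, and integrality of characteristic polynomials

The first result is used to extend norms of functions across a closed subset where the norm need
not be regular: the values of a polynomial map congruent to a function modulo a high power of the
ideal of the closed subset are regular and congruent to the power of that function.
-/

universe u v w

open Polynomial

namespace Groth.AmpleFinite

/-- Evaluation of a polynomial at a point whose entries are in an ideal, modulo that ideal. -/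
theorem eval_sub_mem {R : Type u} {K : Type v} {σ : Type w} [CommRing R] [CommRing K] [Algebra R K]
    (F : MvPolynomial (Option σ) K) (I : Ideal R) (r : R) (a : σ → R) (ha : ∀ j, a j ∈ I)
    (P : Submodule R K) (hP : ∀ d, F.coeff d ∈ P) :
    MvPolynomial.eval (fun o => algebraMap R K (o.elim r a)) F -
      MvPolynomial.eval (fun o => algebraMap R K (o.elim r fun _ => 0)) F ∈ I • P := by
  classical
  let x : Option σ → R := fun o => o.elim r a
  let x₀ : Option σ → R := fun o => o.elim r fun _ => 0
  have hx : ∀ o, x o - x₀ o ∈ I := fun o => by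
    cases o with
    | none => simp [x, x₀]
    | some j => simpa [x, x₀] using ha j
  rw [MvPolynomial.eval_eq, MvPolynomial.eval_eq, ← Finset.sum_sub_distrib]
  refine sum_mem fun d _ => ?_
  have e : ∀ y : Option σ → R, F.coeff d * ∏ i ∈ d.support, algebraMap R K (y i) ^ d i =
      (∏ i ∈ d.support, y i ^ d i) • F.coeff d := fun y => by
    rw [Algebra.smul_def, mul_comm, map_prod]
    simp only [map_pow]
  change F.coeff d * ∏ i ∈ d.support, algebraMap R K (x i) ^ d i -
    F.coeff d * ∏ i ∈ d.support, algebraMap R K (x₀ i) ^ d i ∈ _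
  rw [e, e, ← sub_smul]
  refine Submodule.smul_mem_smul ?_ (hP d)
  rw [← Ideal.Quotient.mk_eq_mk_iff_sub_mem, map_prod, map_prod]
  refine Finset.prod_congr rfl fun i _ => ?_
  rw [map_pow, map_pow, (Ideal.Quotient.mk_eq_mk_iff_sub_mem _ _).2 (hx i)]

/-- A polynomial map to a product of rings which is regular off `V(J)`: at arguments congruent to
`r` modulo a high power of `J` its values come from the ring, and are congruent to `r ^ D` modulo
`J`. -/
theorem exists_congruence {R : Type u} [CommRing R] [IsNoetherianRing R] {ι : Type*} [Finite ι]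
    {σ : Type w} [Finite σ] (K : ι → Type v) [∀ i, CommRing (K i)] [∀ i, Algebra R (K i)]
    (F : ∀ i, MvPolynomial (Option σ) (K i)) (D : ℕ)
    (hF : ∀ (i : ι) (r : R), MvPolynomial.eval
      (fun o => algebraMap R (K i) (o.elim r fun _ => 0)) (F i) = algebraMap R (K i) r ^ D)
    (J : Ideal R)
    (hloc : ∀ (r : R) (a : σ → R) (p : Ideal R), p.IsPrime → ¬ J ≤ p → ∃ u ∉ p, ∃ w : R, ∀ i,
      algebraMap R (K i) u * MvPolynomial.eval (fun o => algebraMap R (K i) (o.elim r a)) (F i) =
        algebraMap R (K i) w) :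
    ∃ k : ℕ, ∀ k', k ≤ k' → ∀ (r : R) (a : σ → R), (∀ j, a j ∈ J ^ k') →
      ∃ w : R, w - r ^ D ∈ J ∧ ∀ i,
        MvPolynomial.eval (fun o => algebraMap R (K i) (o.elim r a)) (F i) =
          algebraMap R (K i) w := by
  classical
  haveI := Fintype.ofFinite ι
  let T := ∀ i, K i
  let E : (Option σ → R) → T := fun x i => MvPolynomial.eval (fun o => algebraMap R (K i) (x o)) (F i)
  let P : Submodule R T := Submodule.pi Set.univ fun i =>
    Submodule.span R (insert 1 ↑((F i).support.image (F i).coeff))
  have hPfg : P.FG := Submodule.fg_pi fun i => Submodule.fg_span ((Finset.finite_toSet _).insert _)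
  have hcoef : ∀ i d, (F i).coeff d ∈
      Submodule.span R (insert 1 ↑((F i).support.image (F i).coeff) : Set (K i)) := by
    intro i d
    by_cases h : d ∈ (F i).support
    · exact Submodule.subset_span (Or.inr (Finset.mem_coe.2 (Finset.mem_image_of_mem _ h)))
    · rw [MvPolynomial.notMem_support_iff.1 h]
      exact zero_mem _
  have hEP : ∀ x, E x ∈ P := by
    intro x i _
    change MvPolynomial.eval (fun o => algebraMap R (K i) (x o)) (F i) ∈ _
    rw [MvPolynomial.eval_eq]
    refine sum_mem fun d _ => ?_
    have e : (F i).coeff d * ∏ j ∈ d.support, algebraMap R (K i) (x j) ^ d j =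
        (∏ j ∈ d.support, x j ^ d j) • (F i).coeff d := by
      rw [Algebra.smul_def, mul_comm, map_prod]
      simp only [map_pow]
    rw [e]
    exact Submodule.smul_mem _ _ (hcoef i d)
  let M : Submodule R T :=
    Submodule.span R (insert 1 (Set.range fun q : R × (σ → R) => E fun o => o.elim q.1 q.2))
  have hMP : M ≤ P := Submodule.span_le.2 (by
    rintro _ (rfl | ⟨q, rfl⟩)
    · exact fun i _ => Submodule.subset_span (Or.inl rfl)
    · exact hEP _)
  haveI : Module.Finite R P := Module.Finite.iff_fg.2 hPfg
  let M₀ : Submodule R P := M.comap P.subtype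
  obtain ⟨c, hc⟩ := Ideal.exists_pow_inf_eq_pow_smul J M₀
  -- the colon ideal of `R · 1` in `M`
  have hM : M₀.FG := IsNoetherian.noetherian _
  obtain ⟨S, hS⟩ := hM
  let one : Submodule R T := Submodule.span R {1}
  have hcol : ∀ m ∈ S, J ≤ (one.colon {(m : T)}).radical := by
    intro m hm
    rw [Ideal.radical_eq_sInf]
    refine le_sInf fun p hp => ?_
    haveI := hp.2
    by_contra hJp
    have hall : ∀ x ∈ M, ∃ u ∉ p, u • x ∈ one := by
      intro x hx
      induction hx using Submodule.span_induction with
      | mem x hx =>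
        rcases hx with rfl | ⟨q, rfl⟩
        · exact ⟨1, fun h => hp.2.ne_top ((Ideal.eq_top_iff_one _).2 h),
            by rw [one_smul]; exact Submodule.subset_span rfl⟩
        · obtain ⟨u, hu, w, hw⟩ := hloc q.1 q.2 p hp.2 hJp
          refine ⟨u, hu, Submodule.mem_span_singleton.2 ⟨w, funext fun i => ?_⟩⟩
          simp only [Pi.smul_apply, Pi.one_apply, Algebra.smul_def, mul_one]
          exact (hw i).symm
      | zero => exact ⟨1, fun h => hp.2.ne_top ((Ideal.eq_top_iff_one _).2 h), by simp [one]⟩
      | add x y _ _ hx hy =>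
        obtain ⟨u, hu, hux⟩ := hx
        obtain ⟨v, hv, hvy⟩ := hy
        refine ⟨u * v, fun h => (hp.2.mem_or_mem h).elim hu hv, ?_⟩
        rw [smul_add, mul_comm u v, mul_smul, mul_comm v u, mul_smul]
        exact add_mem (one.smul_mem v hux) (one.smul_mem u hvy)
      | smul s x _ hx =>
        obtain ⟨u, hu, hux⟩ := hx
        exact ⟨u, hu, by rw [smul_comm]; exact one.smul_mem s hux⟩
    obtain ⟨u, hu, hum⟩ := hall (m : T) (show m ∈ M₀ from hS ▸ Submodule.subset_span hm)
    exact hu (hp.1 (Submodule.mem_colon_singleton.2 hum))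
  have hJ : ∀ m ∈ S, ∃ e : ℕ, J ^ e ≤ one.colon {(m : T)} := fun m hm =>
    Ideal.exists_pow_le_of_le_radical_of_fg (hcol m hm) (IsNoetherian.noetherian J)
  choose e he using hJ
  let e₀ : ℕ := S.attach.sup fun m => e m.1 m.2
  have hJM : ∀ b ∈ J ^ e₀, ∀ m ∈ M₀, b • (m : T) ∈ one := by
    intro b hb m hm
    rw [← hS] at hm
    induction hm using Submodule.span_induction with
    | mem m hm =>
      refine Submodule.mem_colon_singleton.1 (he m hm (Ideal.pow_le_pow_right ?_ hb))
      exact Finset.le_sup (f := fun m => e m.1 m.2) (Finset.mem_attach _ ⟨m, hm⟩)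
    | zero => simp [one]
    | add x y _ _ hx hy => rw [Submodule.coe_add, smul_add]; exact add_mem hx hy
    | smul s x _ hx => rw [Submodule.coe_smul, smul_comm]; exact one.smul_mem s hx
  refine ⟨c + e₀ + 1, fun k' hk r a ha => ?_⟩
  let x : Option σ → R := fun o => o.elim r a
  let x₀ : Option σ → R := fun o => o.elim r fun _ => 0
  have hx₀ : E x₀ = (r ^ D) • (1 : T) := funext fun i => by
    simp only [Pi.smul_apply, Pi.one_apply, Algebra.smul_def, mul_one, map_pow]
    exact hF i r
  have h1M : ((1 : T)) ∈ M := Submodule.subset_span (Or.inl rfl)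
  have hEM : E x - E x₀ ∈ M := by
    refine sub_mem (Submodule.subset_span (Or.inr ⟨(r, a), rfl⟩)) ?_
    rw [hx₀]
    exact M.smul_mem _ h1M
  have hEJ : E x - E x₀ ∈ (J ^ k') • P := by
    have h : ∀ i, (E x - E x₀) i ∈ (J ^ k') •
        Submodule.span R (insert 1 ↑((F i).support.image (F i).coeff) : Set (K i)) :=
      fun i => eval_sub_mem (F i) (J ^ k') r a ha _ (hcoef i)
    rw [← Finset.univ_sum_single (E x - E x₀)]
    refine sum_mem fun i _ => ?_
    have h' := Submodule.mem_map_of_mem (f := LinearMap.single R K i) (h i)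
    rw [Submodule.map_smul''] at h'
    revert h'
    refine fun h' => (Submodule.smul_mono le_rfl ?_) h'
    rintro _ ⟨y, hy, rfl⟩ j -
    rcases eq_or_ne j i with rfl | hji
    · simpa using hy
    · simpa [Pi.single_eq_of_ne hji] using Submodule.zero_mem _
  let m : P := ⟨E x - E x₀, Submodule.smul_le_right hEJ⟩
  have hm : m ∈ (J ^ k') • (⊤ : Submodule R P) ⊓ M₀ :=
    ⟨(Submodule.mem_smul_top_iff _ P m).2 hEJ, hEM⟩
  rw [hc k' (by omega)] at hm
  have hm' : m ∈ J ^ (k' - c) • M₀ :=
    (Submodule.smul_mono le_rfl inf_le_right) hm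
  have hm'' : (m : T) ∈ J • one := by
    have hle : J ^ (k' - c) ≤ J * J ^ e₀ := by
      rw [← pow_succ']
      exact Ideal.pow_le_pow_right (by omega)
    have h2 : m ∈ J • (J ^ e₀ • M₀) := by
      rw [← Submodule.mul_smul]
      exact Submodule.smul_mono_left hle hm'
    have h3 := Submodule.mem_map_of_mem (f := P.subtype) h2
    rw [Submodule.map_smul''] at h3
    refine (Submodule.smul_mono le_rfl ?_) h3
    rw [Submodule.map_smul'', Submodule.smul_le]
    rintro b hb _ ⟨n, hn, rfl⟩
    exact hJM b hb n hn
  obtain ⟨j, hj, hjm⟩ := Submodule.mem_smul_span_singleton.1 hm''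
  refine ⟨r ^ D + j, by simpa using hj, fun i => ?_⟩
  have h := congrFun hjm i
  change (j • (1 : T)) i = E x i - E x₀ i at h
  rw [congrFun hx₀ i, Pi.smul_apply, Pi.smul_apply, Pi.one_apply, Algebra.smul_def,
    Algebra.smul_def, mul_one, mul_one] at h
  change E x i = _
  rw [map_add, h]
  ring

/-- Over a normal domain the characteristic polynomial of an integral element lifts. -/
theorem exists_charpoly_lift {A : Type u} {K : Type v} {V : Type w} [CommRing A] [IsDomain A]
    [IsIntegrallyClosed A] [Field K] [Algebra A K] [IsFractionRing A K] [CommRing V] [Algebra K V]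
    [Algebra A V] [IsScalarTower A K V] [FiniteDimensional K V] (c : V) (hc : IsIntegral A c) :
    ∃ R : A[X], R.Monic ∧ R.map (algebraMap A K) = (Algebra.lmul K V c).charpoly := by
  classical
  let β := Module.finBasis K V
  let M := Algebra.leftMulMatrix β c
  have hchar : (Algebra.lmul K V c).charpoly = M.charpoly :=
    (LinearMap.charpoly_toMatrix _ β).symm
  obtain ⟨Q, hQ, hQc⟩ := hc
  rw [← aeval_def] at hQc
  let Ω := AlgebraicClosure K
  let φ : K →+* Ω := algebraMap K Ω
  rw [hchar]
  suffices h : M.charpoly ∈ Polynomial.lifts (algebraMap A K) by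
    obtain ⟨R, h1, -, h2⟩ := Polynomial.lifts_and_natDegree_eq_and_monic h M.charpoly_monic
    exact ⟨R, h2, h1⟩
  rw [Polynomial.lifts_iff_coeff_lifts]
  intro i
  refine IsIntegrallyClosed.isIntegral_iff.1 ?_
  refine (isIntegral_algHom_iff (IsScalarTower.toAlgHom A K Ω) φ.injective).1 ?_
  change IsIntegral A (φ (M.charpoly.coeff i))
  rw [← Polynomial.coeff_map, ← Matrix.charpoly_map]
  refine Polynomial.isIntegral_coeff_of_factors _ ?_ (IsAlgClosed.splits _) ?_ i
  · rw [(Matrix.charpoly_monic _).leadingCoeff]
    exact isIntegral_one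
  intro lam hlam
  refine ⟨Q, hQ, ?_⟩
  have hspec : lam ∈ spectrum Ω (M.map φ) :=
    Matrix.mem_spectrum_iff_isRoot_charpoly.2 hlam
  let ψ : V →ₐ[A] Matrix (Fin (Module.finrank K V)) (Fin (Module.finrank K V)) Ω :=
    (((Algebra.ofId K Ω).mapMatrix).comp (Algebra.leftMulMatrix β)).restrictScalars A
  have h0 : Polynomial.aeval (M.map φ) (Q.map (algebraMap A Ω)) = 0 := by
    rw [Polynomial.aeval_map_algebraMap]
    change Polynomial.aeval (ψ c) Q = 0
    rw [Polynomial.aeval_algHom_apply, hQc, map_zero]
  have hmem := spectrum.subset_polynomial_aeval (M.map φ) (Q.map (algebraMap A Ω)) ⟨lam, hspec, rfl⟩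
  rw [h0] at hmem
  haveI : Nonempty (Fin (Module.finrank K V)) := by
    by_contra hne
    haveI := not_nonempty_iff.1 hne
    haveI : Subsingleton (Matrix (Fin (Module.finrank K V)) (Fin (Module.finrank K V)) Ω) :=
      ⟨fun a b => Matrix.ext fun i => isEmptyElim i⟩
    exact (spectrum.of_subsingleton (M.map φ)).le hspec
  rw [spectrum.zero_eq] at hmem
  simp only [Polynomial.eval_map, Set.mem_singleton_iff] at hmem
  exact hmem

end Groth.AmpleFinite
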