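import Groth.Agent.Chow.NormGen
import Groth.Agent.AmpleFinite.NormAlg

/-!
# Norms of sections congruent to sections near a closed subset

`g : X' ⟶ X` finite surjective, `X` reduced, normal or with `g_*O` free outside the closed set `Z`.
A section of an inverse image which modulo a high power of the ideal of `Z` comes from `X` has a
norm on the whole of `X`.
-/

universe u

open CategoryTheory AlgebraicGeometry Opposite TopologicalSpace

set_option backward.isDefEq.respectTransparency.types false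

set_option linter.style.haveILetI false

namespace Groth.AmpleFinite

open Groth.PicAux Groth.Chow Groth.PropsBasic.Ample

variable {X' X : Scheme.{u}} (g : X' ⟶ X)

/-- A point of the source which is a specialization of a point over a generic point. -/
def Dom (y : X') : Prop := ∃ y₀ : X', IsGen (g y₀) ∧ y₀ ⤳ y

/-- The stalk at a generic point below a normal point is its field of fractions. -/
theorem isFractionRing_gen [IsNoetherian X] [IsReduced X] {η₀ z : X} (h₀ : η₀ ⤳ z) (hη₀ : IsGen η₀)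
    (hd : IsDomain (X.presheaf.stalk z)) :
    letI := (X.presheaf.stalkSpecializes h₀).hom.toAlgebra
    IsFractionRing (X.presheaf.stalk z) (X.presheaf.stalk η₀) := by
  letI := (isField_stalk_gen hη₀).toField
  letI : Algebra (X.presheaf.stalk z) (X.presheaf.stalk η₀) := (X.presheaf.stalkSpecializes h₀).hom.toAlgebra
  have key : ∀ η, IsGen η → η ⤳ z → η = X.fromSpecStalk z ⟨⊥, Ideal.isPrime_bot⟩ := by
    intro η hη h
    obtain ⟨p, rfl⟩ : η ∈ Set.range (X.fromSpecStalk z) := by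
      rw [Scheme.range_fromSpecStalk]; exact h
    refine (hη _ ?_).symm
    exact ((PrimeSpectrum.le_iff_specializes ⟨⊥, Ideal.isPrime_bot⟩ p).1 bot_le).map
      (X.fromSpecStalk z).continuous
  have hinj : Function.Injective (algebraMap (X.presheaf.stalk z) (X.presheaf.stalk η₀)) := by
    intro a a' h
    refine stalk_ext_gen fun η hη hz => ?_
    obtain rfl : η = η₀ := (key η hη hz).trans (key η₀ hη₀ h₀).symm
    exact h
  obtain ⟨V, hV, hzV, -⟩ := exists_isAffineOpen_mem_and_subset (x := z) (U := (⊤ : X.Opens)) trivial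
  have hηV : η₀ ∈ V := h₀.mem_open V.isOpen hzV
  haveI : FaithfulSMul (X.presheaf.stalk z) (X.presheaf.stalk η₀) :=
    (faithfulSMul_iff_algebraMap_injective _ _).2 hinj
  refine IsFractionRing.of_field _ _ fun x => ?_
  obtain ⟨U, hηU, r, rfl⟩ := TopCat.Presheaf.exists_germ_eq X.presheaf (x := η₀) x
  obtain ⟨a, haU, hηa⟩ := hV.exists_basicOpen_le (V := U) ⟨η₀, hηU⟩ hηV
  haveI := hV.isLocalization_basicOpen a
  obtain ⟨m, s, hs⟩ := IsLocalization.Away.surj a (resX X haU r)
  have h1 := congrArg (X.presheaf.germ (X.basicOpen a) η₀ hηa) hs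
  rw [map_mul, map_pow] at h1
  change X.presheaf.germ _ η₀ hηa (resX X haU r) * X.presheaf.germ _ η₀ hηa (resX X (X.basicOpen_le a) a) ^ m =
    X.presheaf.germ _ η₀ hηa (resX X (X.basicOpen_le a) s) at h1
  rw [germ_resX haU, germ_resX (X.basicOpen_le a), germ_resX (X.basicOpen_le a)] at h1
  refine ⟨X.presheaf.germ V z hzV s, (X.presheaf.germ V z hzV a) ^ m, ?_⟩
  change _ = X.presheaf.stalkSpecializes h₀ (X.presheaf.germ V z hzV s) /
    X.presheaf.stalkSpecializes h₀ ((X.presheaf.germ V z hzV a) ^ m)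
  rw [map_pow, stalkSpec_germ, stalkSpec_germ]
  exact (eq_div_iff (pow_ne_zero m ((X.mem_basicOpen _ _ hηV).1 hηa).ne_zero)).2 h1

variable [IsFinite g] [Surjective g]

/-- If the norm of `c` is a unit at a point, `c` is a unit at the points above it which are
specializations of points above generic points. -/
theorem mem_basicOpen_of_isUnit_norm [IsNoetherian X] [IsReduced X] {y : X'} (hy : Dom g y)
    (hz : (IsDomain (X.presheaf.stalk (g y)) ∧ IsIntegrallyClosed (X.presheaf.stalk (g y))) ∨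
      ∃ (W : X.Opens) (n : ℕ) (b : Fin n → Γ(X', g ⁻¹ᵁ W)), g y ∈ W ∧ SecBasis g W b)
    {D : ℕ} (hD : 0 < D) (hrk : ∀ η : X, IsGen η → rk g η ∣ D) {V : X.Opens} (hzV : g y ∈ V)
    (c : Γ(X', g ⁻¹ᵁ V)) (a : X.presheaf.stalk (g y))
    (ha : ∀ η, IsGen η → ∀ h : η ⤳ g y, X.presheaf.stalkSpecializes h a =
        Algebra.norm (X.presheaf.stalk η) (pspec g h (pgerm g V (g y) hzV c)) ^ (D / rk g η))
    (hau : IsUnit a) : y ∈ X'.basicOpen c := by
  obtain ⟨y₀, hη₀, hy₀⟩ := hy
  have h₀ : g y₀ ⤳ g y := hy₀.map g.continuous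
  have hk : D / rk g (g y₀) ≠ 0 :=
    (Nat.div_pos (Nat.le_of_dvd hD (hrk _ hη₀)) (rk_pos g hη₀)).ne'
  rcases hz with ⟨hd, hic⟩ | ⟨W, n, b, hzW, hb⟩
  · letI := (isField_stalk_gen hη₀).toField
    letI : Algebra (X.presheaf.stalk (g y)) (X.presheaf.stalk (g y₀)) :=
      (X.presheaf.stalkSpecializes h₀).hom.toAlgebra
    haveI := isFractionRing_gen h₀ hη₀ hd
    haveI : IsDomain (X.presheaf.stalk (g y)) := hd
    haveI := hic
    haveI := nontrivial_pstalk g (g y₀)
    letI : Algebra (X.presheaf.stalk (g y)) (PStalk g (g y₀)) :=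
      ((algebraMap (X.presheaf.stalk (g y₀)) (PStalk g (g y₀))).comp
        (X.presheaf.stalkSpecializes h₀).hom).toAlgebra
    haveI : IsScalarTower (X.presheaf.stalk (g y)) (X.presheaf.stalk (g y₀)) (PStalk g (g y₀)) :=
      IsScalarTower.of_algebraMap_eq fun _ => rfl
    let σ : PStalk g (g y) →ₐ[X.presheaf.stalk (g y)] PStalk g (g y₀) :=
      { pspec g h₀ with commutes' := fun r => pspec_algebraMap g h₀ r }
    let cz := pgerm g V (g y) hzV c
    have hint : IsIntegral (X.presheaf.stalk (g y)) (σ cz) :=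
      (IsIntegral.of_finite (X.presheaf.stalk (g y)) cz).map σ
    obtain ⟨R, -, hR⟩ := exists_charpoly_lift (K := X.presheaf.stalk (g y₀)) (σ cz) hint
    have hu0 : σ (Polynomial.aeval cz R) = 0 := by
      rw [← Polynomial.aeval_algHom_apply,
        ← Polynomial.aeval_map_algebraMap (X.presheaf.stalk (g y₀)), hR]
      apply Algebra.lmul_injective (R := X.presheaf.stalk (g y₀))
      rw [map_zero, ← Polynomial.aeval_algHom_apply]
      exact LinearMap.aeval_self_charpoly _
    have hR0 : IsUnit (R.coeff 0) := by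
      let F := Algebra.lmul (X.presheaf.stalk (g y₀)) (PStalk g (g y₀)) (σ cz)
      have e : algebraMap (X.presheaf.stalk (g y)) (X.presheaf.stalk (g y₀)) a =
          algebraMap _ _ (((-1) ^ Module.finrank (X.presheaf.stalk (g y₀)) (PStalk g (g y₀)) *
            R.coeff 0) ^ (D / rk g (g y₀))) := by
        rw [map_pow, map_mul, map_pow, map_neg, map_one, ← Polynomial.coeff_map, hR,
          ← LinearMap.det_eq_sign_charpoly_coeff]
        exact (ha (g y₀) hη₀ h₀).trans (congrArg (· ^ (D / rk g (g y₀))) (Algebra.norm_apply _ _))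
      rw [IsFractionRing.injective (X.presheaf.stalk (g y)) (X.presheaf.stalk (g y₀)) e,
        isUnit_pow_iff hk] at hau
      exact isUnit_of_mul_isUnit_right hau
    -- evaluate at `y`
    let ψ : PStalk g (g y) →+* X'.presheaf.stalk y :=
      (TopCat.Presheaf.stalkPushforward CommRingCat.{u} g.base X'.presheaf y).hom
    let ψ₀ : PStalk g (g y₀) →+* X'.presheaf.stalk y₀ :=
      (TopCat.Presheaf.stalkPushforward CommRingCat.{u} g.base X'.presheaf y₀).hom
    have hψ : ∀ (U : X.Opens) (hU : g y ∈ U) (d : Γ(X', g ⁻¹ᵁ U)),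
        ψ (pgerm g U (g y) hU d) = X'.presheaf.germ (g ⁻¹ᵁ U) y hU d := fun U hU d =>
      congr($(TopCat.Presheaf.stalkPushforward_germ CommRingCat.{u} g.base X'.presheaf U y hU) d)
    have hψ₀ : ∀ (U : X.Opens) (hU : g y₀ ∈ U) (d : Γ(X', g ⁻¹ᵁ U)),
        ψ₀ (pgerm g U (g y₀) hU d) = X'.presheaf.germ (g ⁻¹ᵁ U) y₀ hU d := fun U hU d =>
      congr($(TopCat.Presheaf.stalkPushforward_germ CommRingCat.{u} g.base X'.presheaf U y₀ hU) d)
    by_contra hcy
    have hc : ¬ IsUnit (ψ cz) := fun h => hcy ((X'.mem_basicOpen _ _ hzV).2 (hψ V hzV c ▸ h))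
    have h1 : IsUnit (ψ (Polynomial.aeval cz R)) := by
      conv => arg 1; rw [← R.X_mul_divX_add, map_add, map_mul, Polynomial.aeval_X,
        Polynomial.aeval_C, map_add, map_mul]
      have h2 : IsUnit (ψ (algebraMap _ (PStalk g (g y)) (R.coeff 0))) :=
        (hR0.map (algebraMap _ _)).map ψ
      by_contra hs
      have h3 : ¬ IsUnit (ψ cz * ψ (Polynomial.aeval cz R.divX)) := fun h =>
        hc (isUnit_of_mul_isUnit_left h)
      rw [← mem_nonunits_iff, ← IsLocalRing.mem_maximalIdeal] at hs h3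
      exact (IsLocalRing.mem_maximalIdeal _).1 (by simpa using sub_mem hs h3) h2
    obtain ⟨U, hU, d, hd'⟩ := exists_pgerm g (g y) (Polynomial.aeval cz R)
    rw [← hd', hψ] at h1
    have h4 : y₀ ∈ X'.basicOpen d :=
      hy₀.mem_open (X'.basicOpen d).isOpen ((X'.mem_basicOpen _ _ hU).2 h1)
    rw [X'.mem_basicOpen _ _ (h₀.mem_open U.isOpen hU : y₀ ∈ g ⁻¹ᵁ U), ← hψ₀,
      ← pspec_pgerm g h₀ hU, hd'] at h4
    have h5 : pspec g h₀ (Polynomial.aeval cz R) = 0 := hu0
    rw [h5, map_zero] at h4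
    exact not_isUnit_zero h4
  · obtain ⟨hn, hn', hN⟩ := exists_germ_norm_free g hb hzW
    obtain ⟨a', ha', hau'⟩ := hN (pgerm g V (g y) hzV c)
    have hk' : D / n ≠ 0 := by rw [← hn' _ hη₀ h₀]; exact hk
    have e : a = a' ^ (D / n) := stalk_ext_gen fun η hη h => by
      rw [ha η hη h, map_pow, ha' η hη h, hn' η hη h]
    rw [e, isUnit_pow_iff hk'] at hau
    exact (isUnit_pgerm_iff g g.isClosedMap hzV c).1 (hau'.1 hau) y rfl

/-- On an affine open: the norm of a function congruent to a function of the base. -/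
theorem exists_norm_fun_congr [IsNoetherian X] [IsReduced X] (Z : Closeds X)
    (hX : ∀ z : X, z ∉ Z → (IsDomain (X.presheaf.stalk z) ∧ IsIntegrallyClosed (X.presheaf.stalk z)) ∨
      ∃ (W : X.Opens) (n : ℕ) (b : Fin n → Γ(X', g ⁻¹ᵁ W)), z ∈ W ∧ SecBasis g W b)
    {D : ℕ} (hD : 0 < D) (hrk : ∀ η : X, IsGen η → rk g η ∣ D) {V : X.Opens} (hV : IsAffineOpen V) :
    ∃ k : ℕ, ∀ k', k ≤ k' → ∀ (r : Γ(X, V)) (c : Γ(X', g ⁻¹ᵁ V)),
      c - g.app V r ∈
        ((((Scheme.IdealSheafData.vanishingIdeal Z).ideal ⟨V, hV⟩) ^ k').map (g.app V).hom) →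
      ∃ w : Γ(X, V),
        (∀ η, IsGen η → ∀ hη : η ∈ V, X.presheaf.germ V η hη w =
          Algebra.norm (X.presheaf.stalk η) (pgerm g V η hη c) ^ (D / rk g η)) ∧
        ∀ (z : X) (hz : z ∈ V), z ∈ Z →
          (IsUnit (X.presheaf.germ V z hz w) ↔ IsUnit (X.presheaf.germ V z hz r)) := by
  classical
  let J := (Scheme.IdealSheafData.vanishingIdeal Z).ideal ⟨V, hV⟩
  let R : Type u := Γ(X, V)
  haveI : IsNoetherianRing Γ(X, V) := IsLocallyNoetherian.component_noetherian ⟨V, hV⟩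
  let ι := {η : X // IsGen η ∧ η ∈ V}
  haveI : Finite ι := ((finite_isGen (X := X)).subset fun η h => h.1).to_subtype
  letI : ∀ i : ι, Algebra Γ(X, V) (X.presheaf.stalk i.1) := fun i =>
    (X.presheaf.germ V i.1 i.2.2).hom.toAlgebra
  obtain ⟨m, v, hv⟩ : ∃ (m : ℕ) (v : Fin m → Γ(X', g ⁻¹ᵁ V)),
      letI := secAlg g V
      Submodule.span Γ(X, V) (Set.range v) = ⊤ := by
    letI := secAlg g V
    haveI : Module.Finite Γ(X, V) Γ(X', g ⁻¹ᵁ V) := g.finite_app V hV
    exact Module.Finite.exists_fin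
  have hfield : ∀ i : ι, IsField (X.presheaf.stalk i.1) := fun i => isField_stalk_gen i.2.1
  have hfree : ∀ i : ι, Module.Free (X.presheaf.stalk i.1) (PStalk g i.1) := fun i => by
    letI := (hfield i).toField
    exact Module.Free.of_divisionRing _ _
  let β := fun i : ι => letI := hfree i; Module.finBasis (X.presheaf.stalk i.1) (PStalk g i.1)
  let Mat := fun i : ι => Algebra.leftMulMatrix (β i)
  let F : ∀ i : ι, MvPolynomial (Option (Fin m)) (X.presheaf.stalk i.1) := fun i =>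
    (((MvPolynomial.X none : MvPolynomial (Option (Fin m)) (X.presheaf.stalk i.1)) •
          (1 : Matrix (Fin (Module.finrank (X.presheaf.stalk i.1) (PStalk g i.1))) (Fin (Module.finrank (X.presheaf.stalk i.1) (PStalk g i.1)))
            (MvPolynomial (Option (Fin m)) (X.presheaf.stalk i.1))) +
        ∑ j, (MvPolynomial.X (some j) : MvPolynomial (Option (Fin m)) (X.presheaf.stalk i.1)) •
          (Mat i (pgerm g V i.1 i.2.2 (v j))).map
            (MvPolynomial.C : X.presheaf.stalk i.1 →+*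
              MvPolynomial (Option (Fin m)) (X.presheaf.stalk i.1))).det) ^ (D / rk g i.1)
  have hF : ∀ (i : ι) (r : Γ(X, V)) (a : Fin m → Γ(X, V)),
      MvPolynomial.eval (fun o => algebraMap Γ(X, V) (X.presheaf.stalk i.1) (o.elim r a)) (F i) =
        Algebra.norm (X.presheaf.stalk i.1)
          (pgerm g V i.1 i.2.2 (g.app V r + ∑ j, g.app V (a j) * v j)) ^ (D / rk g i.1) := by
    intro i r a
    rw [map_pow, RingHom.map_det, Algebra.norm_eq_matrix_det (β i)]
    congr 1
    congr 1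
    simp only [map_add, map_sum, map_mul, pgerm_app]
    simp only [← Algebra.smul_def, map_smul, AlgHom.commutes]
    ext p q
    simp only [Matrix.add_apply, Matrix.sum_apply, RingHom.mapMatrix_apply, Matrix.map_apply,
      Matrix.smul_apply, smul_eq_mul, map_mul, MvPolynomial.eval_X, MvPolynomial.eval_C,
      Option.elim_none, Option.elim_some, Matrix.algebraMap_matrix_apply, Matrix.one_apply]
    refine congr_arg₂ (· + ·) ?_ (Finset.sum_congr rfl fun j _ => rfl)
    split_ifs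
    · simp
      rfl
    · simp
  have hloc : ∀ (r : Γ(X, V)) (a : Fin m → Γ(X, V)) (p : Ideal Γ(X, V)), p.IsPrime → ¬ J ≤ p →
      ∃ u ∉ p, ∃ w : Γ(X, V), ∀ i : ι,
        algebraMap Γ(X, V) (X.presheaf.stalk i.1) u *
          MvPolynomial.eval (fun o => algebraMap Γ(X, V) (X.presheaf.stalk i.1) (o.elim r a)) (F i) =
        algebraMap Γ(X, V) (X.presheaf.stalk i.1) w := by
    intro r a p hp hJp
    let c := g.app V r + ∑ j, g.app V (a j) * v j
    let z : X := hV.fromSpec ⟨p, hp⟩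
    have hzV : z ∈ V := hV.range_fromSpec.le ⟨_, rfl⟩
    have hzp : hV.primeIdealOf ⟨z, hzV⟩ = ⟨p, hp⟩ := by
      refine hV.fromSpec.isOpenEmbedding.injective ?_
      exact hV.fromSpec_primeIdealOf ⟨z, hzV⟩
    have hmem : ∀ u : Γ(X, V), z ∈ X.basicOpen u ↔ u ∉ p := fun u => by
      change (⟨p, hp⟩ : PrimeSpectrum Γ(X, V)) ∈ hV.fromSpec ⁻¹ᵁ X.basicOpen u ↔ u ∉ p
      rw [hV.fromSpec_preimage_basicOpen]
      rfl
    have hzZ : z ∉ Z := by
      intro hzZ
      refine hJp fun u hu => ?_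
      by_contra hup
      exact hup ((PrimeSpectrum.mem_vanishingIdeal _ _).1 hu ⟨p, hp⟩ hzZ)
    obtain ⟨b, hb, -, -⟩ := exists_germ_norm g (hX z hzZ) hD hrk hzV c
    obtain ⟨U, hzU, b', rfl⟩ := TopCat.Presheaf.exists_germ_eq X.presheaf (x := z) b
    obtain ⟨O, hzO, hO⟩ := exists_nhd_isGen z
    obtain ⟨u, huUO, hzu⟩ := hV.exists_basicOpen_le (V := U ⊓ O) ⟨z, hzU, hzO⟩ hzV
    haveI := hV.isLocalization_basicOpen u
    obtain ⟨N, w, hw⟩ := IsLocalization.Away.surj u (resX X (huUO.trans inf_le_left) b')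
    refine ⟨u ^ (N + 1), fun h => (hmem u).1 hzu (hp.mem_of_pow_mem _ h), u * w, fun i => ?_⟩
    rw [hF, map_mul, map_pow]
    change X.presheaf.germ V i.1 i.2.2 u ^ (N + 1) * _ =
      X.presheaf.germ V i.1 i.2.2 u * X.presheaf.germ V i.1 i.2.2 w
    by_cases hiu : i.1 ∈ X.basicOpen u
    · have hiz : i.1 ⤳ z := hO i.1 (huUO hiu).2 i.2.1
      have h1 := congrArg (X.presheaf.germ (X.basicOpen u) i.1 hiu) hw
      rw [map_mul, map_pow] at h1
      change X.presheaf.germ _ i.1 hiu (resX X (huUO.trans inf_le_left) b') *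
          X.presheaf.germ _ i.1 hiu (resX X (X.basicOpen_le u) u) ^ N =
        X.presheaf.germ _ i.1 hiu (resX X (X.basicOpen_le u) w) at h1
      rw [germ_resX, germ_resX (X.basicOpen_le u), germ_resX (X.basicOpen_le u)] at h1
      have h2 := hb i.1 i.2.1 hiz
      rw [stalkSpec_germ, pspec_pgerm] at h2
      rw [← h1, ← h2]
      ring
    · have h0 : X.presheaf.germ V i.1 i.2.2 u = 0 := by
        letI := (hfield i).toField
        by_contra h
        exact hiu ((X.mem_basicOpen _ _ i.2.2).2 (Ne.isUnit h))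
      rw [h0, zero_pow N.succ_ne_zero, zero_mul, zero_mul]
  obtain ⟨k, hk⟩ := exists_congruence (fun i : ι => X.presheaf.stalk i.1) F D (fun i r => by
    rw [hF]
    simp only [map_zero, zero_mul, Finset.sum_const_zero, add_zero, pgerm_app]
    rw [norm_pstalk_algebraMap g i.2.1, ← pow_mul, Nat.mul_div_cancel' (hrk _ i.2.1)]
    rfl) J hloc
  refine ⟨k, fun k' hk' r c hc => ?_⟩
  obtain ⟨a, ha, hca⟩ : ∃ a : Fin m → Γ(X, V), (∀ j, a j ∈ J ^ k') ∧
      c = g.app V r + ∑ j, g.app V (a j) * v j := by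
    letI := secAlg g V
    have h1 : c - g.app V r ∈ (J ^ k') • (⊤ : Submodule Γ(X, V) Γ(X', g ⁻¹ᵁ V)) := by
      rw [Ideal.smul_top_eq_map]
      exact hc
    rw [← hv] at h1
    obtain ⟨a, ha, hsum⟩ := (Submodule.mem_ideal_smul_span_iff_exists_sum _ v _).1 h1
    refine ⟨fun j => a j, ha, ?_⟩
    rw [← sub_add_cancel c (g.app V r), ← hsum, add_comm (g.app V r),
      Finsupp.sum_fintype a (fun i d => d • v i) fun j => zero_smul _ _]
    refine congrArg (· + _) (Finset.sum_congr rfl fun j _ => ?_)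
    exact Algebra.smul_def _ _
  obtain ⟨w, hw, hwi⟩ := hk k' hk' r a ha
  refine ⟨w, fun η hη hηV => ?_, fun z hz hzZ => ?_⟩
  · have h := hwi ⟨η, hη, hηV⟩
    rw [hF, ← hca] at h
    exact h.symm
  · have hJz : ¬ IsUnit (X.presheaf.germ V z hz (w - r ^ D)) := by
      intro h
      obtain ⟨q, rfl⟩ : z ∈ Set.range hV.fromSpec := by rw [hV.range_fromSpec]; exact hz
      have hq : (J : Set Γ(X, V)) ⊆ q.asIdeal := fun x hx =>
        (PrimeSpectrum.mem_vanishingIdeal _ _).1 hx q hzZ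
      have h3 : q ∈ hV.fromSpec ⁻¹ᵁ X.basicOpen (w - r ^ D) :=
        (X.mem_basicOpen _ _ hz).2 h
      rw [hV.fromSpec_preimage_basicOpen] at h3
      exact h3 (hq hw)
    rw [map_sub, map_pow] at hJz
    rw [← isUnit_pow_iff (a := X.presheaf.germ V z hz r) hD.ne']
    rw [← mem_nonunits_iff, ← IsLocalRing.mem_maximalIdeal] at hJz
    refine not_iff_not.1 ?_
    rw [← mem_nonunits_iff, ← mem_nonunits_iff, ← IsLocalRing.mem_maximalIdeal,
      ← IsLocalRing.mem_maximalIdeal]
    exact ⟨fun h => by simpa using sub_mem h hJz, fun h => by simpa using add_mem hJz h⟩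

/-- The norm of a section which near `Z` comes from the base. -/
theorem exists_norm_sec_congr [IsNoetherian X] [IsReduced X] (Z : Closeds X)
    (hX : ∀ z : X, z ∉ Z → (IsDomain (X.presheaf.stalk z) ∧ IsIntegrallyClosed (X.presheaf.stalk z)) ∨
      ∃ (W : X.Opens) (n : ℕ) (b : Fin n → Γ(X', g ⁻¹ᵁ W)), z ∈ W ∧ SecBasis g W b)
    {κ : Type*} [Finite κ] (V : κ → X.Opens) (hV : ∀ i, IsAffineOpen (V i))
    (hcov : ∀ x : X, ∃ i, x ∈ V i) :
    ∃ k : ℕ, ∀ k', k ≤ k' → ∀ (M : X.Modules) (e : ∀ i, Γ(M, V i)), (∀ i, Gen M (V i) (e i)) →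
      ∀ (s : Γ((Scheme.Modules.pullback g).obj M, ⊤)) (r : ∀ i, Γ(X, V i))
        (c : ∀ i, Γ(X', g ⁻¹ᵁ V i)),
        (∀ i, res _ le_top s = c i • pullSec g M (e i)) →
        (∀ i, c i - g.app (V i) (r i) ∈
          ((((Scheme.IdealSheafData.vanishingIdeal Z).ideal ⟨V i, hV i⟩) ^ k').map
            (g.app (V i)).hom)) →
        ∃ (D : ℕ) (t : Γ(CohB1.tensorPow M D, ⊤)), 0 < D ∧
          (∀ (i : κ) (z : X) (hz : z ∈ V i), z ∈ Z →
            (z ∈ gloc t ↔ IsUnit (X.presheaf.germ (V i) z hz (r i)))) ∧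
          (∀ z, z ∉ Z → (∀ y, g y = z → y ∈ gloc s) → z ∈ gloc t) ∧
          (∀ z, z ∉ Z → (∀ y, g y = z → y ∉ gloc s) → z ∉ gloc t) ∧
          ∀ y, g y ∉ Z → Dom g y → g y ∈ gloc t → y ∈ gloc s := by
  classical
  let G := (finite_isGen (X := X)).toFinset
  let D := ∏ η ∈ G, rk g η
  have hD : 0 < D := Finset.prod_pos fun η hη => rk_pos g ((finite_isGen (X := X)).mem_toFinset.1 hη)
  have hrk : ∀ η : X, IsGen η → rk g η ∣ D := fun η hη =>
    Finset.dvd_prod_of_mem _ ((finite_isGen (X := X)).mem_toFinset.2 hη)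
  haveI := Fintype.ofFinite κ
  choose k hk using fun i => exists_norm_fun_congr g Z hX hD hrk (hV i)
  refine ⟨Finset.univ.sup k, fun k' hk' M e he s r c hc hcr => ?_⟩
  choose w hw hwZ using fun i =>
    hk i k' ((Finset.le_sup (Finset.mem_univ i)).trans hk') (r i) (c i) (hcr i)
  obtain ⟨t, ht, -⟩ := res_glue (M := CohB1.tensorPow M D) (U := ⊤) V (fun _ => le_top)
    (fun x _ => Opens.mem_iSup.2 (hcov x)) (fun i => w i • powSec (e i) D) (fun i j => by
      let O := V i ⊓ V j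
      have hOi : O ≤ V i := inf_le_left
      have hOj : O ≤ V j := inf_le_right
      obtain ⟨a, ha⟩ := (he i).exists_coeff hOi (res M hOj (e j))
      have hci := congrArg (res _ (g.preimage_mono hOi)) (hc i)
      have hcj := congrArg (res _ (g.preimage_mono hOj)) (hc j)
      rw [res_res, res_smul, res_pullSec g M hOi] at hci
      rw [res_res, res_smul, res_pullSec g M hOj] at hcj
      rw [ha, pullSec_smul, ← mul_smul] at hcj
      have h1 : resX X' (g.preimage_mono hOi) (c i) =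
          resX X' (g.preimage_mono hOj) (c j) * g.app O a := by
        refine (((he i).res hOi).pull g).smul_inj le_rfl ?_
        rw [res_self]
        exact hci.symm.trans hcj
      rw [res_smul, res_smul, res_powSec, res_powSec, ha, powSec_smul, ← mul_smul]
      congr 1
      refine section_ext_gen fun η hη hηV => ?_
      rw [map_mul, map_pow, germ_resX hOi hηV, germ_resX hOj hηV, hw i η hη, hw j η hη]
      have h2 := congrArg (pgerm g O η hηV) h1
      rw [map_mul, pgerm_res g hOi, pgerm_res g hOj, pgerm_app] at h2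
      rw [h2, map_mul, norm_pstalk_algebraMap g hη, mul_pow, ← pow_mul,
        Nat.mul_div_cancel' (hrk η hη)])
  have ht' : ∀ i, ∀ z, ∀ hz : z ∈ V i,
      (z ∈ gloc t ↔ IsUnit (X.presheaf.germ (V i) z hz (w i))) := fun i z hz => by
    rw [← X.mem_basicOpen _ _ hz, ← gloc_inf_eq_basicOpen ((he i).pow D) (ht i)]
    exact ⟨fun h => ⟨h, hz⟩, fun h => h.1⟩
  have hs' : ∀ i, ∀ y : X', g y ∈ V i → (y ∈ gloc s ↔ y ∈ X'.basicOpen (c i)) := fun i y hy => by
    rw [← gloc_inf_eq_basicOpen ((he i).pull g) (hc i)]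
    exact ⟨fun h => ⟨h, hy⟩, fun h => h.1⟩
  have hgerm : ∀ i z, ∀ hz : z ∈ V i, z ∉ Z → ∃ b,
      b = X.presheaf.germ (V i) z hz (w i) ∧
      (∀ η, IsGen η → ∀ h : η ⤳ z, X.presheaf.stalkSpecializes h b =
        Algebra.norm (X.presheaf.stalk η) (pspec g h (pgerm g (V i) z hz (c i))) ^ (D / rk g η)) ∧
      ((∀ y, g y = z → y ∈ X'.basicOpen (c i)) → IsUnit b) ∧
      ((∀ y, g y = z → y ∉ X'.basicOpen (c i)) → ¬ IsUnit b) := fun i z hz hzZ => by
    obtain ⟨b, hb, h1, h2⟩ := exists_germ_norm g (hX z hzZ) hD hrk hz (c i)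
    refine ⟨b, (stalk_ext_gen fun η hη h => ?_).symm, hb, h1, h2⟩
    rw [hb η hη h, stalkSpec_germ, pspec_pgerm, hw i η hη]
  refine ⟨D, t, hD, fun i z hz hzZ => (ht' i z hz).trans (hwZ i z hz hzZ),
    fun z hzZ h => ?_, fun z hzZ h => ?_, fun y hyZ hy hyt => ?_⟩
  · obtain ⟨i, hi⟩ := hcov z
    obtain ⟨b, rfl, -, h1, -⟩ := hgerm i z hi hzZ
    exact (ht' i z hi).2 (h1 fun y hy => (hs' i y (hy ▸ hi)).1 (h y hy))
  · obtain ⟨i, hi⟩ := hcov z
    obtain ⟨b, rfl, -, -, h2⟩ := hgerm i z hi hzZ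
    exact fun h' => h2 (fun y hy hy' => h y hy ((hs' i y (hy ▸ hi)).2 hy')) ((ht' i z hi).1 h')
  · obtain ⟨i, hi⟩ := hcov (g y)
    obtain ⟨b, rfl, hb, -, -⟩ := hgerm i (g y) hi hyZ
    exact (hs' i y hi).2 (mem_basicOpen_of_isUnit_norm g hy (hX _ hyZ) hD hrk hi (c i) _ hb
      ((ht' i (g y) hi).1 hyt))

end Groth.AmpleFinite
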