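import Groth.Agent.AmpleFinite.QuasiSlice
import Groth.Agent.HTopHyper.QfhRefine
import Groth.Agent.EGA43Topo.DVRCriterion

/-!
# Sections of universally open surjections after a finite surjection

A universally open surjective morphism locally of finite type onto a Noetherian affine scheme has
Zariski local sections after a finite surjective base change.
-/

universe u

open CategoryTheory CategoryTheory.Limits AlgebraicGeometry
open scoped TensorProduct

set_option linter.style.haveILetI false

namespace Groth.AmpleFinite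

open Groth.Misc8.Subtr (HasPair exists_kill)

/-- Pairs over a valuation ring come from pairs over discrete valuation rings with the same centre. -/
theorem hasPair_of_forall_dvr_centre {A B V : Type u} [CommRing A] [IsNoetherianRing A] [CommRing B] [Algebra A B]
    [CommRing V] [IsDomain V] [ValuationRing V] [Algebra A V] (hV : IsLocalRing.maximalIdeal V ≠ ⊥)
    (H : ∀ (D : Type u) [CommRing D] [IsDomain D] [IsDiscreteValuationRing D] [Algebra A D],
      (IsLocalRing.maximalIdeal D).comap (algebraMap A D) =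
        (IsLocalRing.maximalIdeal V).comap (algebraMap A V) → HasPair D (D ⊗[A] B)) : HasPair V (V ⊗[A] B) := by
  classical
  by_contra hno
  obtain ⟨t, m, r, ht, hm, hrel⟩ := exists_kill hno
  obtain ⟨π, hπ, hπ0⟩ := Submodule.exists_mem_ne_zero_of_ne_bot hV
  obtain ⟨A1, hA1, r1, hr1⟩ := TensorProduct.Algebra.exists_of_fg (R := A) r
  let A0 := Algebra.adjoin A (({t, m, π} : Finset V) : Set V) ⊔ A1
  have hA0 : A0.FG := (Subalgebra.fg_adjoin_finset _).sup hA1
  have hsub : ∀ z ∈ ({t, m, π} : Finset V), z ∈ A0 := fun z hz =>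
    (le_sup_left : Algebra.adjoin A _ ≤ A0) (Algebra.subset_adjoin (Finset.mem_coe.mpr hz))
  let t0 : A0 := ⟨t, hsub t (by simp)⟩
  let m0 : A0 := ⟨m, hsub m (by simp)⟩
  let r0 : A0 ⊗[A] B :=
    Algebra.TensorProduct.map (Subalgebra.inclusion (le_sup_right : A1 ≤ A0)) (AlgHom.id A B) r1
  let ζ : A0 ⊗[A] B := (t0 ⊗ₜ[A] (1 : B)) * (1 - (m0 ⊗ₜ[A] (1 : B)) * r0)
  have hmap : ∀ (S S' : Type u) [CommRing S] [CommRing S'] [Algebra A S] [Algebra A S'] (φ : S →ₐ[A] S')
      (z : S ⊗[A] B), φ.toLinearMap.rTensor B z = Algebra.TensorProduct.map φ (AlgHom.id A B) z := by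
    intro S S' _ _ _ _ φ z
    induction z using TensorProduct.induction_on with
    | zero => simp
    | tmul a b => rfl
    | add a b ha hb => simp [ha, hb]
  have hr0 : Algebra.TensorProduct.map A0.val (AlgHom.id A B) r0 = r := by
    rw [← hr1, hmap, ← AlgHom.comp_apply, ← Algebra.TensorProduct.map_comp]
    rfl
  have hζ : A0.val.toLinearMap.rTensor B ζ = A0.val.toLinearMap.rTensor B 0 := by
    rw [map_zero, hmap]
    simp only [ζ, map_mul, map_sub, map_one, Algebra.TensorProduct.map_tmul, Subalgebra.coe_val,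
      AlgHom.id_apply, hr0]
    exact hrel
  obtain ⟨A2, hA02, hA2, hz⟩ := TensorProduct.Algebra.eq_of_fg_of_subtype_eq hA0 hζ
  have hft : Algebra.FiniteType A A2 := ⟨A2.fg_top.mpr hA2⟩
  have : IsNoetherianRing A2 := Algebra.FiniteType.isNoetherianRing A A2
  let p : Ideal A2 := (IsLocalRing.maximalIdeal V).comap A2.val.toRingHom
  have hp : p.IsPrime := Ideal.IsPrime.comap _
  let π2 : A2 := ⟨π, hA02 (hsub π (by simp))⟩
  have hinjloc : Function.Injective (algebraMap A2 (Localization.AtPrime p)) :=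
    IsLocalization.injective _ p.primeCompl_le_nonZeroDivisors
  have hnf : ¬ IsField (Localization.AtPrime p) := by
    intro hF
    have h1 : algebraMap A2 (Localization.AtPrime p) π2 ∈ IsLocalRing.maximalIdeal (Localization.AtPrime p) :=
      (IsLocalization.AtPrime.to_map_mem_maximal_iff _ p π2).mpr hπ
    rw [IsLocalRing.isField_iff_maximalIdeal_eq.mp hF, Ideal.mem_bot] at h1
    exact hπ0 (congrArg Subtype.val (hinjloc (h1.trans (map_zero _).symm)))
  obtain ⟨D, iD, iDd, iDdvr, φ, hφ, hφl⟩ :=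
    Groth.EGA43Val.exists_dvr_dominating (Localization.AtPrime p) hnf
  let δ : A2 →+* D := φ.comp (algebraMap A2 _)
  let : Algebra A D := (δ.comp (algebraMap A A2)).toAlgebra
  let δA : A2 →ₐ[A] D := { δ with commutes' := fun _ => rfl }
  let Λ := Algebra.TensorProduct.map δA (AlgHom.id A B)
  have hc : (IsLocalRing.maximalIdeal D).comap (algebraMap A D) =
      (IsLocalRing.maximalIdeal V).comap (algebraMap A V) := by
    ext a
    constructor
    · intro ha
      have h1 : algebraMap A2 (Localization.AtPrime p) (algebraMap A A2 a) ∈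
          IsLocalRing.maximalIdeal (Localization.AtPrime p) := fun hu => ha (hu.map φ)
      exact (IsLocalization.AtPrime.to_map_mem_maximal_iff _ p _).mp h1
    · intro ha hu
      exact (IsLocalization.AtPrime.isUnit_to_map_iff _ p _).mp (hφl.map_nonunit _ hu) ha
  obtain ⟨q', q, hq', hq, hle, hbot, hmax⟩ := H D hc
  have hz' := congrArg Λ hz
  rw [map_zero, map_zero, hmap] at hz'
  simp only [ζ, map_mul, map_sub, map_one, Algebra.TensorProduct.map_tmul, AlgHom.id_apply, Λ] at hz'
  have ht' : δA (Subalgebra.inclusion hA02 t0) ⊗ₜ[A] (1 : B) ∉ q' := by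
    intro hmem
    have : δA (Subalgebra.inclusion hA02 t0) ∈ q'.comap (algebraMap D (D ⊗[A] B)) := hmem
    rw [hbot, Ideal.mem_bot] at this
    exact ht (congrArg Subtype.val (hinjloc (hφ (this.trans (map_zero φ).symm) |>.trans (map_zero _).symm)))
  have hm' : δA (Subalgebra.inclusion hA02 m0) ⊗ₜ[A] (1 : B) ∈ q := by
    have : δA (Subalgebra.inclusion hA02 m0) ∈ q.comap (algebraMap D (D ⊗[A] B)) := by
      rw [hmax, IsLocalRing.mem_maximalIdeal, mem_nonunits_iff]
      intro hu
      have h1 : IsUnit (algebraMap A2 (Localization.AtPrime p) (Subalgebra.inclusion hA02 m0)) :=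
        hφl.map_nonunit _ hu
      exact (IsLocalization.AtPrime.isUnit_to_map_iff _ p _).mp h1 hm
    exact this
  have h2 := (hq'.mem_or_mem (hz' ▸ q'.zero_mem)).resolve_left ht'
  exact hq.ne_top ((Ideal.eq_top_iff_one q).mpr (by
    have := q.add_mem (hle h2) (q.mul_mem_right
      (Λ (Algebra.TensorProduct.map (Subalgebra.inclusion hA02) (AlgHom.id A B) r0)) hm')
    simpa [Λ] using this))

/-- Minimal primes of a base change to a discrete valuation ring of a universally open algebra
lie over the generic point. -/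
theorem comap_eq_bot_of_universallyOpen {A B : Type u} [CommRing A] [CommRing B] [Algebra A B]
    [UniversallyOpen (Spec.map (CommRingCat.ofHom (algebraMap A B)))]
    (D : Type u) [CommRing D] [IsDomain D] [Algebra A D]
    (q : Ideal (D ⊗[A] B)) (hq : q ∈ minimalPrimes (D ⊗[A] B)) :
    q.comap (algebraMap D (D ⊗[A] B)) = ⊥ := by
  have hu : UniversallyOpen (Spec.map (CommRingCat.ofHom (algebraMap D (D ⊗[A] B)))) :=
    MorphismProperty.of_isPullback (Groth.Misc8.Subtr.isPullback_tensor A B D) inferInstance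
  haveI := hq.1.1
  obtain ⟨Q', hle, hQ'⟩ := Groth.EGA43Topo.exists_specializes_of_isOpenAt
    (p := Spec.map (CommRingCat.ofHom (algebraMap D (D ⊗[A] B))))
    (x := (⟨q, inferInstance⟩ : PrimeSpectrum (D ⊗[A] B)))
    (fun U hU => (Spec.map (CommRingCat.ofHom (algebraMap D (D ⊗[A] B)))).isOpenMap.image_mem_nhds hU)
    (z := (⟨⊥, Ideal.isPrime_bot⟩ : PrimeSpectrum D))
    ((PrimeSpectrum.le_iff_specializes (⟨⊥, Ideal.isPrime_bot⟩ : PrimeSpectrum D) _).1 bot_le)
  have hle' : Q'.asIdeal ≤ q := (PrimeSpectrum.le_iff_specializes Q' ⟨q, inferInstance⟩).2 hle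
  have he : Q'.asIdeal = q := le_antisymm hle' (hq.2 ⟨Q'.isPrime, bot_le⟩ hle')
  rw [← he]
  exact congrArg PrimeSpectrum.asIdeal hQ'

/-- At every point of the base there is a quasi-finite piece lifting all specializations ending
at this point. -/
theorem exists_quasiFinite_piece {Y' : Scheme.{u}} {A : CommRingCat.{u}} [IsNoetherianRing A]
    (g : Y' ⟶ Spec A) [LocallyOfFiniteType g] [UniversallyOpen g] [Surjective g] (p : PrimeSpectrum A) :
    ∃ (C : CommRingCat.{u}) (c : A ⟶ C) (m : Spec C ⟶ Y'), m ≫ g = Spec.map c ∧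
      c.hom.FiniteType ∧ c.hom.QuasiFinite ∧ (∃ P : PrimeSpectrum C, PrimeSpectrum.comap c.hom P = p) ∧
      ∀ (D : Type u) [CommRing D] [IsDomain D] [IsDiscreteValuationRing D] [Algebra A D],
        (IsLocalRing.maximalIdeal D).comap (algebraMap A D) = p.asIdeal →
          letI := c.hom.toAlgebra
          HasPair D (D ⊗[A] C) := by
  classical
  obtain ⟨y', hy'⟩ := g.surjective p
  obtain ⟨U, hU, hyU, -⟩ := exists_isAffineOpen_mem_and_subset (x := y') (U := (⊤ : Y'.Opens)) trivial
  let B : CommRingCat.{u} := Γ(Y', U)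
  obtain ⟨φ, hφ⟩ := Spec.map_surjective (hU.fromSpec ≫ g)
  letI : Algebra A B := φ.hom.toAlgebra
  haveI : UniversallyOpen (Spec.map (CommRingCat.ofHom (algebraMap A B))) := by
    change UniversallyOpen (Spec.map φ)
    rw [hφ]
    infer_instance
  haveI : Algebra.FiniteType A B := by
    have h : LocallyOfFiniteType (Spec.map φ) := by rw [hφ]; infer_instance
    exact (HasRingHomProperty.Spec_iff (P := @LocallyOfFiniteType)).1 h
  obtain ⟨P₁, hP₁⟩ : y' ∈ Set.range hU.fromSpec := by rw [hU.range_fromSpec]; exact hyU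
  have hP₁p : PrimeSpectrum.comap (algebraMap A B) P₁ = p := by
    rw [← hy', ← hP₁, ← Scheme.Hom.comp_apply, ← hφ]
    rfl
  let N₁ := PrimeSpectrum.preimageOrderIsoFiber A B p ⟨P₁, hP₁p⟩
  haveI : Nontrivial (p.asIdeal.Fiber B) :=
    ⟨⟨0, 1, fun h => N₁.isPrime.ne_top ((Ideal.eq_top_iff_one _).2 (h ▸ N₁.asIdeal.zero_mem))⟩⟩
  obtain ⟨n₀, hn₀max⟩ := Ideal.exists_maximal (p.asIdeal.Fiber B)
  haveI := hn₀max
  obtain ⟨d, a, b, n, hn, hn₀, hd, han, hbn, hnp, hqf⟩ := exists_slice (A := A) (B := B) p.asIdeal n₀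
  haveI := hn
  haveI := hqf
  let C₀ := Localization.Away (Ideal.Quotient.mk (Ideal.span (Set.range a)) b)
  let toC : B →+* C₀ := (algebraMap (B ⧸ Ideal.span (Set.range a)) C₀).comp (Ideal.Quotient.mk _)
  have halg : (toC.comp φ.hom).toAlgebra = (inferInstance : Algebra A C₀) := by
    refine Algebra.algebra_ext _ _ fun x => ?_
    exact (IsScalarTower.algebraMap_apply A (B ⧸ Ideal.span (Set.range a)) C₀ x).symm
  haveI : Algebra.FiniteType (B ⧸ Ideal.span (Set.range a)) C₀ := inferInstance
  haveI : Algebra.FiniteType A C₀ :=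
    Algebra.FiniteType.trans (S := B ⧸ Ideal.span (Set.range a)) inferInstance inferInstance
  refine ⟨CommRingCat.of C₀, φ ≫ CommRingCat.ofHom toC,
    Spec.map (CommRingCat.ofHom toC) ≫ hU.fromSpec, ?_, ?_, ?_, ?_, ?_⟩
  · rw [Category.assoc, Spec.map_comp, hφ]
  · change @Algebra.FiniteType A C₀ _ _ (toC.comp φ.hom).toAlgebra
    rw [halg]
    infer_instance
  · change @Algebra.QuasiFinite A C₀ _ _ (toC.comp φ.hom).toAlgebra
    rw [halg]
    exact hqf
  · have hIn : Ideal.span (Set.range a) ≤ n := Ideal.span_le.2 (by rintro _ ⟨i, rfl⟩; exact han i)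
    let m : Ideal (B ⧸ Ideal.span (Set.range a)) := n.map (Ideal.Quotient.mk _)
    haveI : m.IsPrime := Ideal.map_isPrime_of_surjective Ideal.Quotient.mk_surjective (by
      rw [Ideal.mk_ker]; exact hIn)
    have hm : m.comap (Ideal.Quotient.mk _) = n := by
      rw [Ideal.comap_map_of_surjective _ Ideal.Quotient.mk_surjective, ← RingHom.ker_eq_comap_bot,
        Ideal.mk_ker, sup_eq_left.2 hIn]
    obtain ⟨P, hP⟩ : (⟨m, inferInstance⟩ : PrimeSpectrum (B ⧸ Ideal.span (Set.range a))) ∈
        Set.range (PrimeSpectrum.comap (algebraMap _ C₀)) := by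
      rw [PrimeSpectrum.localization_away_comap_range C₀ (Ideal.Quotient.mk (Ideal.span (Set.range a)) b)]
      exact fun h => hbn (hm.le h)
    refine ⟨P, PrimeSpectrum.ext ?_⟩
    rw [← hnp, ← hm]
    change Ideal.comap (toC.comp φ.hom) P.asIdeal = _
    have hP' : P.asIdeal.comap (algebraMap (B ⧸ Ideal.span (Set.range a)) C₀) = m :=
      congrArg PrimeSpectrum.asIdeal hP
    rw [← hP', Ideal.comap_comap, Ideal.comap_comap]
    rfl
  · intro D _ _ _ _ hD
    change @HasPair D (@TensorProduct A _ D C₀ _ _ _ (toC.comp φ.hom).toAlgebra.toModule) _ _ _ _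
    rw [halg]
    exact hasPair_slice p.asIdeal n₀ a b n hn₀ hd han hbn D hD
      fun q hq => comap_eq_bot_of_universallyOpen D q hq

/-- A universally open surjection locally of finite type onto a Noetherian affine scheme has
Zariski local sections after a finite surjective base change. -/
theorem exists_finite_sections {Y' : Scheme.{u}} {A : CommRingCat.{u}} [IsNoetherianRing A]
    (g : Y' ⟶ Spec A) [LocallyOfFiniteType g] [UniversallyOpen g] [Surjective g] :
    ∃ (Y₁ : Scheme.{u}) (p : Y₁ ⟶ Spec A) (n : ℕ) (V : Fin n → Y₁.Opens), IsFinite p ∧ Surjective p ∧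
      ⨆ i, V i = ⊤ ∧ ∀ i, ∃ h : (↑(V i) : Scheme.{u}) ⟶ Y', h ≫ g = (V i).ι ≫ p := by
  classical
  choose C c m hm hft hqf hpt hpair using exists_quasiFinite_piece g
  let E : PreZeroHypercover.{u} (Spec A) :=
    { I₀ := PrimeSpectrum A, X := fun p => Spec (C p), f := fun p => Spec.map (c p) }
  haveI : ∀ j, LocallyOfFiniteType (E.f j) := fun j =>
    (HasRingHomProperty.Spec_iff (P := @LocallyOfFiniteType)).2 (hft j)
  haveI : ∀ j, LocallyQuasiFinite (E.f j) := fun j =>
    (HasRingHomProperty.Spec_iff (P := @LocallyQuasiFinite)).2 (hqf j)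
  have hval : HTop.HasValLift E := by
    rw [Groth.HTopHyper.hasValLift_iff]
    intro V _ _ g₀
    obtain ⟨φ, rfl⟩ := Spec.map_surjective g₀
    let p : PrimeSpectrum A := ⟨(IsLocalRing.maximalIdeal V).comap φ.hom, inferInstance⟩
    refine ⟨p, ?_⟩
    by_cases hV : IsLocalRing.maximalIdeal V = ⊥
    · obtain ⟨P, hP⟩ := hpt p
      obtain ⟨z, hz, -⟩ := Scheme.Pullback.exists_preimage_pullback (f := Spec.map φ) (g := E.f p)
        (Groth.HTopHyper.clPt V) P hP.symm
      have hgc : Groth.HTopHyper.genPt V = Groth.HTopHyper.clPt V := PrimeSpectrum.ext hV.symm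
      exact ⟨z, z, specializes_refl z, hz.trans hgc.symm, hz⟩
    letI : Algebra A V := φ.hom.toAlgebra
    letI : Algebra A (C p) := (c p).hom.toAlgebra
    haveI : IsNoetherianRing A := ‹_›
    obtain ⟨q', q, hq', hq, hle, hbot, hmax⟩ :=
      hasPair_of_forall_dvr_centre (A := A) (B := C p) (V := V) hV fun D _ _ _ _ hD => hpair p D hD
    have sq := Groth.Misc8.Subtr.isPullback_tensor A (C p) V
    let e := sq.flip.isoPullback
    have he : ∀ x, pullback.fst (Spec.map φ) (E.f p) (e.hom x) =
        Spec.map (CommRingCat.ofHom (algebraMap V (TensorProduct A V (C p)))) x := fun x => by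
      rw [← Scheme.Hom.comp_apply]
      exact congr($(sq.flip.isoPullback_hom_fst) x)
    refine ⟨e.hom (⟨q', hq'⟩ : PrimeSpectrum (TensorProduct A V (C p))),
      e.hom (⟨q, hq⟩ : PrimeSpectrum (TensorProduct A V (C p))),
      ((PrimeSpectrum.le_iff_specializes (⟨q', hq'⟩ : PrimeSpectrum (TensorProduct A V (C p)))
        ⟨q, hq⟩).1 hle).map e.hom.continuous, ?_, ?_⟩
    · exact (he _).trans (PrimeSpectrum.ext hbot)
    · exact (he _).trans (PrimeSpectrum.ext hmax)
  obtain ⟨Y₁, q, n, V, hq, hqs, hVt, hlift⟩ :=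
    Groth.HTopHyper.QfhRefine.exists_finite_refinement E hval
  refine ⟨Y₁, q, n, V, hq, hqs, hVt, fun i => ?_⟩
  obtain ⟨j, h, hh⟩ := hlift i
  exact ⟨h ≫ m j, by rw [Category.assoc, hm]; exact hh⟩

end Groth.AmpleFinite
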