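import Groth.Agent.EGA43Topo.UnibranchParams
import Groth.Agent.Misc8.SubtrNoeth
import Mathlib.RingTheory.Ideal.KrullsHeightTheorem
import Mathlib.RingTheory.ZariskisMainTheorem

/-!
# Quasi-finite slices of universally open algebras

At a closed point of a fibre cut by a system of parameters of the fibre, a quasi-finite piece
lifts every specialization ending at the image point.
-/

universe u

open scoped TensorProduct

set_option linter.style.haveILetI false

namespace Groth.AmpleFinite

open Groth.Misc8.Subtr (HasPair)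

variable {A B : Type u} [CommRing A] [CommRing B] [Algebra A B]

/-- A chain of primes of the fibre lifts along a field extension. -/
theorem exists_ltSeries_baseChange {K K' F : Type u} [Field K] [Field K'] [Algebra K K'] [CommRing F]
    [Algebra K F] [IsNoetherianRing F] (n₀ : Ideal F) [hn₀ : n₀.IsPrime] :
    ∃ L : LTSeries (PrimeSpectrum (K' ⊗[K] F)), (L.length : ℕ∞) = n₀.height ∧
      L.last.asIdeal.comap (Algebra.TensorProduct.includeRight (R := K) (A := K') (B := F)).toRingHom = n₀ := by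
  letI : Algebra F (K' ⊗[K] F) := Algebra.TensorProduct.rightAlgebra
  haveI hfl : Module.FaithfullyFlat F (F ⊗[K] K') := inferInstance
  haveI : Module.FaithfullyFlat F (K' ⊗[K] F) :=
    Module.FaithfullyFlat.of_linearEquiv _ _ (Algebra.TensorProduct.commRight K F K').symm.toLinearEquiv
  haveI : Algebra.HasGoingDown F (K' ⊗[K] F) := Algebra.HasGoingDown.of_flat
  obtain ⟨N, hN⟩ := PrimeSpectrum.comap_surjective_of_faithfullyFlat (A := F) (B := K' ⊗[K] F)
      ⟨n₀, inferInstance⟩
  obtain ⟨l, hl, hllen⟩ := n₀.exists_ltSeries_length_eq_height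
  have hNn : N.asIdeal.comap (algebraMap F (K' ⊗[K] F)) = n₀ := congrArg PrimeSpectrum.asIdeal hN
  haveI : N.asIdeal.LiesOver l.last.asIdeal := ⟨by rw [hl]; exact hNn.symm⟩
  obtain ⟨L, hLlen, hLlast, -⟩ := Ideal.exists_ltSeries_of_hasGoingDown l N.asIdeal
  refine ⟨L, by rw [hLlen, hllen], ?_⟩
  rw [hLlast]
  exact hNn

/-- A quasi-finite slice at a maximal ideal of a fibre. -/
theorem exists_slice [Algebra.FiniteType A B] (p : Ideal A) [p.IsPrime] (n₀ : Ideal (p.Fiber B))
    [n₀.IsMaximal] :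
    ∃ (d : ℕ) (a : Fin d → B) (b : B) (n : Ideal B) (_ : n.IsPrime),
      n₀.comap (Algebra.TensorProduct.includeRight : B →ₐ[A] p.Fiber B).toRingHom = n ∧
      n₀.height = (d : ℕ∞) ∧ (∀ i, a i ∈ n) ∧ b ∉ n ∧ n.comap (algebraMap A B) = p ∧
      Algebra.QuasiFinite A (Localization.Away (Ideal.Quotient.mk (Ideal.span (Set.range a)) b)) := by
  classical
  haveI : IsNoetherianRing (p.Fiber B) := Algebra.FiniteType.isNoetherianRing p.ResidueField _
  let P₀ : PrimeSpectrum A := ⟨p, inferInstance⟩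
  let e := PrimeSpectrum.preimageOrderIsoFiber A B P₀
  let ι : B →+* p.Fiber B := Algebra.TensorProduct.includeRight.toRingHom
  have hcomap : ∀ w, (e w).asIdeal.comap ι = w.1.asIdeal := fun w =>
    congrArg (fun v => v.1.asIdeal) (e.symm_apply_apply w)
  let w := e.symm ⟨n₀, inferInstance⟩
  let n : Ideal B := w.1.asIdeal
  have hn₀ : n₀.comap ι = n := by
    have h := hcomap w
    rwa [e.apply_symm_apply] at h
  have hnp : n.comap (algebraMap A B) = p := congrArg PrimeSpectrum.asIdeal w.2
  obtain ⟨s₀, hs₀, hcard⟩ := Ideal.exists_finset_card_eq_height_of_isNoetherianRing n₀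
  let g : Fin s₀.card → p.Fiber B := fun i => (s₀.equivFin.symm i).1
  choose r hr a ha using fun i => Ideal.Fiber.exists_smul_eq_one_tmul p (g i)
  have hunit : ∀ i, IsUnit (algebraMap A (p.Fiber B) (r i)) := fun i => by
    rw [IsScalarTower.algebraMap_apply A p.ResidueField (p.Fiber B)]
    exact (IsUnit.mk0 _ fun h0 => hr i (Ideal.algebraMap_residueField_eq_zero.1 h0)).map _
  have hmem : ∀ (J : Ideal (p.Fiber B)) [J.IsPrime] (i), a i ∈ J.comap ι ↔ g i ∈ J := fun J _ i => by
    show (1 : p.ResidueField) ⊗ₜ[A] a i ∈ J ↔ _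
    rw [← ha, Algebra.smul_def, Ideal.unit_mul_mem_iff_mem J (hunit i)]
  have han : ∀ i, a i ∈ n := fun i => by
    rw [← hn₀, hmem]
    exact hs₀.1.2 (Ideal.subset_span (s₀.equivFin.symm i).2)
  let I : Ideal B := Ideal.span (Set.range a)
  have hIn : I ≤ n := Ideal.span_le.2 (by rintro _ ⟨i, rfl⟩; exact han i)
  let m : Ideal (B ⧸ I) := n.map (Ideal.Quotient.mk I)
  haveI : m.IsPrime := Ideal.map_isPrime_of_surjective Ideal.Quotient.mk_surjective (by
    rw [Ideal.mk_ker]; exact hIn)
  have hm : m.comap (Ideal.Quotient.mk I) = n := by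
    rw [Ideal.comap_map_of_surjective _ Ideal.Quotient.mk_surjective, ← RingHom.ker_eq_comap_bot,
      Ideal.mk_ker, sup_eq_left.2 hIn]
  haveI : Algebra.QuasiFiniteAt A m := by
    refine Groth.EGA43Topo.quasiFiniteAt_of_comparable m fun m' hm' hcmp he => ?_
    haveI := hm'
    let n' := m'.comap (Ideal.Quotient.mk I)
    have hp : n'.comap (algebraMap A B) = p := by
      rw [← hnp, ← hm]
      simp only [n', Ideal.comap_comap]
      exact he
    let N' := e ⟨⟨n', inferInstance⟩, PrimeSpectrum.ext hp⟩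
    have hN' : N'.asIdeal.comap ι = n' := hcomap _
    have hle : Ideal.span (↑s₀ : Set (p.Fiber B)) ≤ N'.asIdeal := by
      refine Ideal.span_le.2 fun x hx => ?_
      have h1 : a (s₀.equivFin ⟨x, hx⟩) ∈ N'.asIdeal.comap ι := by
        rw [hN']
        change Ideal.Quotient.mk I (a _) ∈ m'
        rw [Ideal.Quotient.eq_zero_iff_mem.2 (Ideal.subset_span (Set.mem_range_self _))]
        exact m'.zero_mem
      rw [hmem] at h1
      simpa [g] using h1
    have key : n' = n := by
      have hw : e w = ⟨n₀, inferInstance⟩ := e.apply_symm_apply _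
      rcases hcmp with h | h
      · have h' : N'.asIdeal ≤ n₀ := by
          have h2 : n' ≤ n := by rw [← hm]; exact Ideal.comap_mono h
          have h3 := e.monotone (show (⟨⟨n', inferInstance⟩, PrimeSpectrum.ext hp⟩ :
            PrimeSpectrum.comap (algebraMap A B) ⁻¹' {P₀}) ≤ w from h2)
          rw [hw] at h3
          exact h3
        have h4 : n₀ ≤ N'.asIdeal := hs₀.2 ⟨N'.isPrime, hle⟩ h'
        rw [← hN', ← hn₀, le_antisymm h' h4]
      · have h2 : n ≤ n' := by rw [← hm]; exact Ideal.comap_mono h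
        have h3 := e.monotone (show w ≤ ⟨⟨n', inferInstance⟩, PrimeSpectrum.ext hp⟩ from h2)
        rw [hw] at h3
        have h4 : n₀ = N'.asIdeal :=
          Ideal.IsMaximal.eq_of_le inferInstance N'.isPrime.ne_top h3
        rw [← hN', ← hn₀, h4]
    calc m' = (m'.comap (Ideal.Quotient.mk I)).map (Ideal.Quotient.mk I) :=
          (Ideal.map_comap_of_surjective _ Ideal.Quotient.mk_surjective _).symm
      _ = m := by rw [show m'.comap (Ideal.Quotient.mk I) = n from key]
  obtain ⟨S', hS', s, hs, hbij⟩ :=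
    Algebra.QuasiFiniteAt.exists_fg_and_exists_notMem_and_awayMap_bijective (R := A) m
  haveI : Module.Finite A S' := ⟨(Submodule.fg_top _).mpr hS'⟩
  haveI : Algebra.QuasiFinite A (Localization.Away s) := .trans _ S' _
  haveI hqf : Algebra.QuasiFinite A (Localization.Away s.1) :=
    .of_surjective_algHom (Localization.awayMapₐ S'.val s) hbij.2
  obtain ⟨b, hb⟩ := Ideal.Quotient.mk_surjective s.1
  refine ⟨s₀.card, a, b, n, inferInstance, hn₀, hcard.symm, han, fun h => hs ?_, hnp, ?_⟩
  · rw [← hb]; exact Ideal.mem_map_of_mem _ h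
  · rw [hb]; exact hqf

/-- The slice lifts the specialization of a discrete valuation ring centred at the point. -/
theorem hasPair_slice [Algebra.FiniteType A B] [IsNoetherianRing A] (p : Ideal A) [p.IsPrime] (n₀ : Ideal (p.Fiber B))
    [n₀.IsMaximal] {d : ℕ} (a : Fin d → B) (b : B) (n : Ideal B) [n.IsPrime]
    (hn₀ : n₀.comap (Algebra.TensorProduct.includeRight : B →ₐ[A] p.Fiber B).toRingHom = n)
    (hd : n₀.height = (d : ℕ∞)) (han : ∀ i, a i ∈ n) (hbn : b ∉ n)
    [Algebra.QuasiFinite A (Localization.Away (Ideal.Quotient.mk (Ideal.span (Set.range a)) b))]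
    (D : Type u) [CommRing D] [IsDomain D] [IsDiscreteValuationRing D] [Algebra A D]
    (hp : (IsLocalRing.maximalIdeal D).comap (algebraMap A D) = p)
    (hopen : ∀ q ∈ minimalPrimes (D ⊗[A] B), q.comap (algebraMap D (D ⊗[A] B)) = ⊥) :
    HasPair D (D ⊗[A] Localization.Away (Ideal.Quotient.mk (Ideal.span (Set.range a)) b)) := by
  classical
  let C := Localization.Away (Ideal.Quotient.mk (Ideal.span (Set.range a)) b)
  let T := D ⊗[A] B
  haveI : IsNoetherianRing T := Algebra.FiniteType.isNoetherianRing D T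
  let toC : B →ₐ[A] C :=
    (IsScalarTower.toAlgHom A (B ⧸ Ideal.span (Set.range a)) C).comp (Ideal.Quotient.mkₐ A _)
  let ψ : T →ₐ[D] D ⊗[A] C := Algebra.TensorProduct.map (AlgHom.id D D) toC
  let iB : B →ₐ[A] T := Algebra.TensorProduct.includeRight
  -- extend pairs of primes to the slice
  have extend : ∀ q' Q : Ideal T, q'.IsPrime → Q.IsPrime → q' ≤ Q → (∀ i, iB (a i) ∈ q') →
      iB b ∉ Q → ∃ r R : Ideal (D ⊗[A] C), r.IsPrime ∧ R.IsPrime ∧ r ≤ R ∧
        r.comap ψ.toRingHom = q' ∧ R.comap ψ.toRingHom = Q := by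
    intro q' Q hq' hQ hle ha hb
    haveI := hq'
    haveI := hQ
    let mk : T →ₐ[D] T ⧸ q' := Ideal.Quotient.mkₐ D q'
    let Qb : Ideal (T ⧸ q') := Q.map (Ideal.Quotient.mk q')
    haveI : Qb.IsPrime := Ideal.map_isPrime_of_surjective Ideal.Quotient.mk_surjective (by
      rw [Ideal.mk_ker]; exact hle)
    have hQb : Qb.comap (Ideal.Quotient.mk q') = Q := by
      rw [Ideal.comap_map_of_surjective _ Ideal.Quotient.mk_surjective, ← RingHom.ker_eq_comap_bot,
        Ideal.mk_ker, sup_eq_left.2 hle]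
    let W := Localization.AtPrime Qb
    let toW : T →ₐ[D] W := (IsScalarTower.toAlgHom D (T ⧸ q') W).comp mk
    have hinj : Function.Injective (algebraMap (T ⧸ q') W) :=
      IsLocalization.injective (M := Qb.primeCompl) (Localization.AtPrime Qb)
        Qb.primeCompl_le_nonZeroDivisors
    let β₁ : B →ₐ[A] W := (toW.restrictScalars A).comp iB
    have hβ₁ : ∀ x ∈ Ideal.span (Set.range a), β₁ x = 0 := by
      intro x hx
      have h1 : Ideal.span (Set.range a) ≤ RingHom.ker β₁.toRingHom := by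
        refine Ideal.span_le.2 ?_
        rintro _ ⟨i, rfl⟩
        change algebraMap (T ⧸ q') W (Ideal.Quotient.mk q' (iB (a i))) = 0
        rw [Ideal.Quotient.eq_zero_iff_mem.2 (ha i), map_zero]
      exact h1 hx
    let β₂ : B ⧸ Ideal.span (Set.range a) →ₐ[A] W := Ideal.Quotient.liftₐ _ β₁ hβ₁
    have hu : IsUnit (β₂ (Ideal.Quotient.mk _ b)) := by
      change IsUnit (algebraMap (T ⧸ q') W (Ideal.Quotient.mk q' (iB b)))
      refine IsLocalization.map_units W (⟨_, ?_⟩ : Qb.primeCompl)
      intro h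
      exact hb (hQb.le h)
    let β : C →ₐ[A] W := IsLocalization.Away.liftAlgHom _ hu
    have hβ : ∀ x : B, β (toC x) = β₁ x := fun x =>
      (IsLocalization.Away.lift_eq _ hu (Ideal.Quotient.mk _ x)).trans rfl
    let Λ : D ⊗[A] C →ₐ[D] W :=
      Algebra.TensorProduct.lift (Algebra.ofId D W) β fun _ _ => Commute.all _ _
    have hΛ : ∀ t : T, Λ (ψ t) = toW t := by
      intro t
      induction t using TensorProduct.induction_on with
      | zero => simp
      | tmul x y =>
        rw [show ψ (x ⊗ₜ y) = x ⊗ₜ toC y from rfl]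
        refine (Algebra.TensorProduct.lift_tmul _ _ _ _ _).trans ?_
        rw [hβ]
        change algebraMap D W x * toW (iB y) = toW (x ⊗ₜ y)
        rw [← toW.commutes, ← map_mul]
        congr 1
        change (x ⊗ₜ[A] (1 : B)) * ((1 : D) ⊗ₜ[A] y) = _
        rw [Algebra.TensorProduct.tmul_mul_tmul, mul_one, one_mul]
      | add x y hx hy => simp only [map_add, hx, hy]
    refine ⟨RingHom.ker Λ.toRingHom, (IsLocalRing.maximalIdeal W).comap Λ.toRingHom,
      RingHom.ker_isPrime _, inferInstance, Ideal.comap_mono bot_le, ?_, ?_⟩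
    · ext t
      change Λ (ψ t) = 0 ↔ _
      rw [hΛ, ← Ideal.Quotient.eq_zero_iff_mem]
      change algebraMap (T ⧸ q') W _ = 0 ↔ _
      exact map_eq_zero_iff _ hinj
    · ext t
      change Λ (ψ t) ∈ IsLocalRing.maximalIdeal W ↔ _
      rw [hΛ]
      change algebraMap (T ⧸ q') W (Ideal.Quotient.mk q' t) ∈ _ ↔ _
      rw [IsLocalization.AtPrime.to_map_mem_maximal_iff W Qb]
      exact ⟨fun h => hQb.le h, fun h => hQb.ge h⟩
  have hψD : ∀ R : Ideal (D ⊗[A] C), (R.comap ψ.toRingHom).comap (algebraMap D T) =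
      R.comap (algebraMap D (D ⊗[A] C)) := fun R => by
    rw [Ideal.comap_comap]
    exact congrArg (Ideal.comap · R) ψ.comp_algebraMap
  -- the special fibre
  let κ := IsLocalRing.ResidueField D
  have hker : RingHom.ker (algebraMap A κ) = p := by
    rw [← hp]
    ext x
    rw [RingHom.mem_ker, Ideal.mem_comap, IsScalarTower.algebraMap_apply A D κ]
    exact Ideal.Quotient.eq_zero_iff_mem
  let σ : p.ResidueField →ₐ[A] κ := Ideal.ResidueField.liftₐ p (Algebra.ofId A κ) hker.ge
    (fun x hx => by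
      refine Ne.isUnit fun h => hx ?_
      rw [← hker]
      exact h)
  letI : Algebra p.ResidueField κ := σ.toRingHom.toAlgebra
  haveI : IsScalarTower A p.ResidueField κ := IsScalarTower.of_algebraMap_eq fun x => (σ.commutes x).symm
  haveI : IsNoetherianRing (p.Fiber B) := Algebra.FiniteType.isNoetherianRing p.ResidueField _
  obtain ⟨L, hLlen, hNn⟩ := exists_ltSeries_baseChange (K := p.ResidueField) (K' := κ) n₀
  let T₀ := κ ⊗[p.ResidueField] (p.Fiber B)
  let N : Ideal T₀ := L.last.asIdeal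
  let ρ : p.Fiber B →+* T₀ :=
    (Algebra.TensorProduct.includeRight (R := p.ResidueField) (A := κ) (B := p.Fiber B)).toRingHom
  let cb : T₀ ≃ₐ[κ] κ ⊗[A] B := Algebra.TensorProduct.cancelBaseChange A p.ResidueField κ κ B
  let π : T →ₐ[A] T₀ := (cb.symm.toAlgHom.restrictScalars A).comp
    (Algebra.TensorProduct.map (IsScalarTower.toAlgHom A D κ) (AlgHom.id A B))
  have hπ : Function.Surjective π := by
    refine cb.symm.surjective.comp ?_
    exact TensorProduct.map_surjective Ideal.Quotient.mk_surjective Function.surjective_id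
  have hπB : ∀ x : B, π (iB x) = ρ (Algebra.TensorProduct.includeRight (R := A)
      (A := p.ResidueField) x) := by
    intro x
    change cb.symm (algebraMap D κ 1 ⊗ₜ[A] x) = _
    rw [map_one, AlgEquiv.symm_apply_eq]
    exact ((Algebra.TensorProduct.cancelBaseChange_tmul A p.ResidueField κ κ B
      (1 : κ) (1 : p.ResidueField) x).trans (by rw [one_smul])).symm
  let L' : LTSeries (PrimeSpectrum T) := L.map (PrimeSpectrum.comap π.toRingHom)
    (RingHom.strictMono_comap_of_surjective hπ)
  let Q : Ideal T := N.comap π.toRingHom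
  haveI : Q.IsPrime := inferInstance
  have hQlast : L'.last.asIdeal = Q := by
    rw [LTSeries.last_map]
    rfl
  obtain ⟨ϖ, hϖ⟩ := IsDiscreteValuationRing.exists_irreducible D
  have hϖmem : ∀ P : Ideal T₀, algebraMap D T ϖ ∈ P.comap π.toRingHom := by
    intro P
    have h0 : algebraMap D κ ϖ = 0 := Ideal.Quotient.eq_zero_iff_mem.2 <| by
      rw [hϖ.maximalIdeal_eq]
      exact Ideal.mem_span_singleton_self ϖ
    have : π (ϖ ⊗ₜ[A] (1 : B)) = 0 := by
      change cb.symm (algebraMap D κ ϖ ⊗ₜ[A] (1 : B)) = 0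
      rw [h0, TensorProduct.zero_tmul, map_zero]
    change π (ϖ ⊗ₜ[A] (1 : B)) ∈ P
    rw [this]
    exact P.zero_mem
  obtain ⟨q, hq, hqL⟩ := Ideal.exists_minimalPrimes_le (bot_le : ⊥ ≤ L'.head.asIdeal)
  haveI := hq.1.1
  have hqϖ : algebraMap D T ϖ ∉ q := fun h => by
    have h1 : ϖ ∈ q.comap (algebraMap D T) := h
    rw [hopen q hq, Ideal.mem_bot] at h1
    exact hϖ.ne_zero h1
  have hlt : (⟨q, inferInstance⟩ : PrimeSpectrum T) < L'.head := by
    refine lt_of_le_of_ne hqL fun h => hqϖ ?_
    have h1 : algebraMap D T ϖ ∈ L'.head.asIdeal := by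
      rw [LTSeries.head_map]
      exact hϖmem _
    rwa [← h] at h1
  let L'' := L'.cons ⟨q, inferInstance⟩ hlt
  -- in the quotient by `q`
  let mkq := Ideal.Quotient.mk q
  have hge : ∀ i, q ≤ (L'' i).asIdeal := fun i => by
    have h := LTSeries.head_le L'' i
    rw [RelSeries.head_cons] at h
    exact h
  have hprime : ∀ i, ((L'' i).asIdeal.map mkq).IsPrime := fun i =>
    Ideal.map_isPrime_of_surjective Ideal.Quotient.mk_surjective (by rw [Ideal.mk_ker]; exact hge i)
  have hcm : ∀ i, ((L'' i).asIdeal.map mkq).comap mkq = (L'' i).asIdeal := fun i => by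
    rw [Ideal.comap_map_of_surjective _ Ideal.Quotient.mk_surjective, ← RingHom.ker_eq_comap_bot,
      Ideal.mk_ker, sup_eq_left.2 (hge i)]
  let Lq : LTSeries (PrimeSpectrum (T ⧸ q)) :=
    { length := L''.length
      toFun := fun i => ⟨(L'' i).asIdeal.map mkq, hprime i⟩
      step := fun i => by
        have hs : L''.toFun i.castSucc < L''.toFun i.succ := L''.step i
        refine lt_of_le_of_ne (Ideal.map_mono hs.le) fun h => hs.ne ?_
        exact PrimeSpectrum.ext
          ((hcm i.castSucc).symm.trans ((congrArg (Ideal.comap mkq) h).trans (hcm i.succ))) }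
  let Qq : Ideal (T ⧸ q) := Q.map mkq
  have hQq' : Lq.last.asIdeal = Qq := by
    change (L'' (Fin.last _)).asIdeal.map mkq = _
    rw [show L'' (Fin.last _) = L''.last from rfl, RelSeries.last_cons, hQlast]
  haveI : Qq.IsPrime := hQq' ▸ Lq.last.isPrime
  have hheight : ((d + 1 : ℕ) : ℕ∞) ≤ Qq.height := by
    rw [(⟨Qq, inferInstance⟩ : PrimeSpectrum (T ⧸ q)).height_eq_orderHeight]
    have h1 : (Lq.length : ℕ∞) ≤ Order.height (⟨Qq, inferInstance⟩ : PrimeSpectrum (T ⧸ q)) :=
      Order.length_le_height (le_of_eq (PrimeSpectrum.ext hQq'))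
    refine le_trans (le_of_eq ?_) h1
    have h2 : (L.length : ℕ∞) = (d : ℕ∞) := hLlen.trans hd
    have h3 : L.length = d := by exact_mod_cast h2
    simp [Lq, L'', L', h3]
  have hQB : Q.comap iB.toRingHom = n := by
    rw [← hn₀, ← hNn]
    ext x
    change π (iB x) ∈ N ↔ _
    rw [hπB]
    rfl
  have haQ : ∀ i, iB (a i) ∈ Q := fun i => by
    have h := han i
    rw [← hQB] at h
    exact h
  have hbQ : iB b ∉ Q := fun h => hbn (by rw [← hQB]; exact h)
  have hqQ : q ≤ Q := by
    rw [← hQlast]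
    exact hqL.trans (LTSeries.head_le_last L')
  have hcmQ : Qq.comap mkq = Q := by
    rw [Ideal.comap_map_of_surjective _ Ideal.Quotient.mk_surjective, ← RingHom.ker_eq_comap_bot,
      Ideal.mk_ker, sup_eq_left.2 hqQ]
  -- Krull
  have hnotmin : Qq ∉ (Ideal.span (Set.range fun i => mkq (iB (a i)))).minimalPrimes := by
    intro hmin
    have h := Ideal.height_le_card_of_mem_minimalPrimes_span_finset
      (s := Finset.univ.image fun i => mkq (iB (a i))) (p := Qq)
      (by rwa [Finset.coe_image, Finset.coe_univ, Set.image_univ])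
    have hc : (Finset.univ.image fun i => mkq (iB (a i))).card ≤ d :=
      Finset.card_image_le.trans (by simp)
    have := hheight.trans (h.trans (Nat.cast_le.2 hc))
    norm_cast at this
    omega
  obtain ⟨P, hP, hPQ⟩ := Ideal.exists_minimalPrimes_le
    (show Ideal.span (Set.range fun i => mkq (iB (a i))) ≤ Qq from
      Ideal.span_le.2 (by rintro _ ⟨i, rfl⟩; exact Ideal.mem_map_of_mem _ (haQ i)))
  haveI := hP.1.1
  have hne : P ≠ Qq := fun h => hnotmin (h ▸ hP)
  let q' : Ideal T := P.comap mkq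
  haveI : q'.IsPrime := inferInstance
  have hq'Q : q' ≤ Q := hcmQ ▸ Ideal.comap_mono hPQ
  have haq' : ∀ i, iB (a i) ∈ q' := fun i => hP.1.2 (Ideal.subset_span ⟨i, rfl⟩)
  obtain ⟨r, R, hr, hR, hrR, hrq, hRQ⟩ := extend q' Q inferInstance inferInstance hq'Q haq' hbQ
  have hmax : R.comap (algebraMap D (D ⊗[A] C)) = IsLocalRing.maximalIdeal D := by
    rw [← hψD, hRQ]
    haveI : (Q.comap (algebraMap D T)).IsPrime := inferInstance
    refine le_antisymm (IsLocalRing.le_maximalIdeal (Ideal.IsPrime.ne_top inferInstance)) ?_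
    rw [hϖ.maximalIdeal_eq, Ideal.span_le, Set.singleton_subset_iff]
    exact hϖmem N
  refine ⟨r, R, hr, hR, hrR, ?_, hmax⟩
  haveI := hr
  haveI := hR
  by_contra hne0
  have hrmax : r.comap (algebraMap D (D ⊗[A] C)) = IsLocalRing.maximalIdeal D :=
    ((Ring.DimensionLEOne.maximalOfPrime hne0 inferInstance).eq_of_le
      (IsLocalRing.maximalIdeal.isMaximal D).ne_top
      (IsLocalRing.le_maximalIdeal (Ideal.IsPrime.ne_top inferInstance)))
  have hrR' : r = R := Algebra.QuasiFinite.eq_of_le_of_under_eq (R := D) r R hrR (hrmax.trans hmax.symm)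
  refine hne ?_
  rw [← Ideal.map_comap_of_surjective mkq Ideal.Quotient.mk_surjective P]
  change q'.map mkq = _
  rw [← hrq, hrR', hRQ]

end Groth.AmpleFinite
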