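import Groth.Agent.AmpleFinite.Main
import Groth.Agent.KTheory.LocFree
import Groth.Agent.RefRank.Norm.FinLocFree
import Groth.Agent.Cycles.SheafCyc
import Groth.Agent.Ega2Proj.QuasiAffineAmple

/-!
# Ampleness along finite surjective morphisms: reduction to the reduced case
-/

universe u

open CategoryTheory CategoryTheory.Limits AlgebraicGeometry Opposite TopologicalSpace

set_option backward.isDefEq.respectTransparency.types false

set_option linter.style.haveILetI false

noncomputable section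

namespace Groth.AmpleFinite

open Groth.PicAux Groth.Chow Groth.PropsBasic.Ample

variable {X' X : Scheme.{u}}

/-- A reduced closed subscheme of an open, inside a closed set proper over the base, is proper over
an affine open of the base containing its image. -/
theorem isProper_reduced {Y T B : Scheme.{u}} (f : X ⟶ Y) (Z : Closeds X)
    [IsProper ((Scheme.IdealSheafData.vanishingIdeal Z).subschemeι ≫ f)]
    (t : T ⟶ X) [IsReduced T] [IsPreimmersion t] [LocallyOfFiniteType t] [QuasiCompact t]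
    (b : B ⟶ Y) [IsOpenImmersion b] (tb : T ⟶ B) (hw : tb ≫ b = t ≫ f)
    (hrange : Set.range t = (Z : Set X) ∩ f ⁻¹' Set.range b) : IsProper tb := by
  let I := Scheme.IdealSheafData.vanishingIdeal Z
  have hker : I.subschemeι.ker ≤ t.ker := by
    rw [Scheme.IdealSheafData.ker_subschemeι, ← Scheme.IdealSheafData.map_bot,
      ← Scheme.nilradical_eq_bot (X := T), ← Scheme.IdealSheafData.vanishingIdeal_top,
      Scheme.IdealSheafData.map_vanishingIdeal]
    refine Scheme.IdealSheafData.vanishingIdeal_antimono ?_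
    rw [TopologicalSpace.Closeds.closure_le]
    rintro _ ⟨a, -, rfl⟩
    exact ((hrange.le ⟨a, rfl⟩).1 : t a ∈ (Z : Set X))
  let t₁ := IsClosedImmersion.lift I.subschemeι t hker
  have ht₁ : t₁ ≫ I.subschemeι = t := IsClosedImmersion.lift_fac _ _ _
  let q := pullback.fst (I.subschemeι ≫ f) b
  let a : T ⟶ pullback (I.subschemeι ≫ f) b :=
    pullback.lift t₁ tb (by rw [← Category.assoc, ht₁, hw])
  have ha : (a ≫ q) ≫ I.subschemeι = t := by rw [pullback.lift_fst, ht₁]
  haveI : IsPreimmersion ((a ≫ q) ≫ I.subschemeι) := by rw [ha]; infer_instance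
  haveI : IsPreimmersion (a ≫ q) := IsPreimmersion.of_comp _ I.subschemeι
  haveI : IsPreimmersion a := IsPreimmersion.of_comp a q
  have hsurj : Function.Surjective a := fun s => by
    have h1 : I.subschemeι (q s) ∈ Set.range t := by
      rw [hrange]
      refine ⟨?_, ?_⟩
      · have := (I.range_subschemeι).le ⟨q s, rfl⟩
        rwa [Scheme.IdealSheafData.coe_support_vanishingIdeal] at this
      · exact ⟨pullback.snd (I.subschemeι ≫ f) b s,
          congr($(pullback.condition (f := I.subschemeι ≫ f) (g := b)) s).symm⟩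
    obtain ⟨w, hw'⟩ := h1
    refine ⟨w, q.isOpenEmbedding.injective (I.subschemeι.isClosedEmbedding.injective ?_)⟩
    rw [← hw', ← ha]
    rfl
  haveI : IsClosedImmersion a := .of_isPreimmersion a (by rw [hsurj.range_eq]; exact isClosed_univ)
  have : a ≫ pullback.snd (I.subschemeι ≫ f) b = tb := pullback.lift_snd _ _ _
  rw [← this]
  infer_instance

/-- Bases of the restriction of `g` are bases of `g`. -/
theorem secBasis_of_restrict (g : X' ⟶ X) (U : X.Opens) {V₀ : U.toScheme.Opens} {n : ℕ}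
    {b : Fin n → Γ(((g ⁻¹ᵁ U : X'.Opens) : Scheme.{u}), (g ∣_ U) ⁻¹ᵁ V₀)} (hb : SecBasis (g ∣_ U) V₀ b) :
    SecBasis g (U.ι ''ᵁ V₀) fun i => resX X' (image_morphismRestrict_preimage g U V₀).ge
      (b i : Γ(X', (g ⁻¹ᵁ U).ι ''ᵁ ((g ∣_ U) ⁻¹ᵁ V₀))) := by
  intro V hV
  obtain ⟨A, rfl⟩ : ∃ A : U.toScheme.Opens, U.ι ''ᵁ A = V :=
    ⟨U.ι ⁻¹ᵁ V, by
      rw [Scheme.Hom.image_preimage_eq_opensRange_inf, Scheme.Opens.opensRange_ι]
      exact inf_eq_right.2 (hV.trans (U.ι_image_le V₀))⟩
  have hA : A ≤ V₀ := fun y hy => by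
    obtain ⟨z, hz, hzy⟩ := hV ⟨y, hy, rfl⟩
    exact U.ι.isOpenEmbedding.injective hzy ▸ hz
  let e : Γ(X', (g ⁻¹ᵁ U).ι ''ᵁ ((g ∣_ U) ⁻¹ᵁ A)) →+* Γ(X', g ⁻¹ᵁ (U.ι ''ᵁ A)) :=
    resX X' (image_morphismRestrict_preimage g U A).ge
  have he : Function.Bijective e := by
    refine Function.bijective_iff_has_inverse.2
      ⟨resX X' (image_morphismRestrict_preimage g U A).le, fun a => ?_, fun a => ?_⟩ <;> simp [e]
  refine (congrArg Function.Bijective (funext fun r => ?_)).mpr (he.comp (hb A hA))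
  refine Eq.trans ?_ (map_sum e _ _).symm
  refine Finset.sum_congr rfl fun i _ => ?_
  refine (congr_arg₂ (· * ·) ?_ ?_).trans (map_mul e _ _).symm
  · have h1 : (g ∣_ U).app A (r i) = resX X' (image_morphismRestrict_preimage g U A).le
        (g.app (U.ι ''ᵁ A) (r i)) := congr($(morphismRestrict_app g U A) (r i))
    rw [h1]
    exact ((resX_resX _ _ _).trans (resX_self _ _)).symm
  · exact (resX_resX _ _ _).trans (resX_resX _ _ _).symm

/-- A morphism is flat over an affine open on which its direct image has a basis. -/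
theorem flat_restrict_of_secBasis (g : X' ⟶ X) [IsAffineHom g] {V : X.Opens} (hV : IsAffineOpen V)
    {n : ℕ} {b : Fin n → Γ(X', g ⁻¹ᵁ V)} (hb : SecBasis g V b) : Flat (g ∣_ V) := by
  haveI : IsAffine V.toScheme := hV
  haveI : IsAffine (g ⁻¹ᵁ V).toScheme := hV.preimage g
  have h1 : V.ι ''ᵁ ⊤ ≤ V := V.ι_image_le _
  obtain ⟨β, -⟩ := (hb.res h1).exists_basis
  letI := secAlg g (V.ι ''ᵁ ⊤)
  haveI := Module.Free.of_basis β
  have h2 : (g.app (V.ι ''ᵁ ⊤)).hom.Flat :=
    RingHom.flat_algebraMap_iff.2 (inferInstance : Module.Flat Γ(X, V.ι ''ᵁ ⊤) Γ(X', g ⁻¹ᵁ (V.ι ''ᵁ ⊤)))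
  rw [HasRingHomProperty.iff_of_isAffine (P := @Flat), morphismRestrict_appTop]
  exact RingHom.Flat.comp (f := (g.app (V.ι ''ᵁ ⊤)).hom) h2
    (RingHom.Flat.of_bijective (ConcreteCategory.bijective_of_isIso
      (X'.presheaf.map (eqToHom (image_morphismRestrict_preimage g V ⊤)).op)))

/-- Over an affine Noetherian base: ampleness descends along a finite surjective morphism when the
locus where the scheme is not normal nor the morphism free is proper over the base. -/
theorem isAmple_of_pullback_affine {R : Type u} [CommRing R] [IsNoetherianRing R]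
    (f : X ⟶ Spec (CommRingCat.of R)) [LocallyOfFiniteType f] [QuasiCompact f]
    (g : X' ⟶ X) [IsFinite g] [Surjective g] (Z : Closeds X)
    [IsProper ((Scheme.IdealSheafData.vanishingIdeal Z).subschemeι ≫ f)]
    (hX : ∀ z : X, z ∉ Z → (IsDomain (X.presheaf.stalk z) ∧ IsIntegrallyClosed (X.presheaf.stalk z)) ∨
      ∃ (W : X.Opens) (n : ℕ) (b : Fin n → Γ(X', g ⁻¹ᵁ W)), z ∈ W ∧ SecBasis g W b)
    {L : X.Modules} (hL : PicF.IsInvertible L)
    (hA : CohB1.IsAmple ((Scheme.Modules.pullback g).obj L)) : CohB1.IsAmple L := by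
  classical
  haveI : IsLocallyNoetherian X := LocallyOfFiniteType.isLocallyNoetherian f
  let I := Scheme.IdealSheafData.vanishingIdeal (⊤ : Closeds X)
  let i := I.subschemeι
  have hi : Set.range i = Set.univ := by
    rw [Scheme.IdealSheafData.range_subschemeι, Scheme.IdealSheafData.coe_support_vanishingIdeal]
    rfl
  haveI : Surjective i := ⟨Set.range_eq_univ.1 hi⟩
  refine Groth.Limits.AmpleThickening.isAmple_of_surjective_closedImmersion i L hL ?_
  let g₀ := pullback.snd g i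
  let q := pullback.fst g i
  let Z₀ : Closeds I.subscheme := Z.preimage i.continuous
  let t := (Scheme.IdealSheafData.vanishingIdeal Z₀).subschemeι ≫ i
  haveI : IsReduced I.subscheme := Groth.PropsBasic2.isReduced_vanishingIdeal_subscheme _
  haveI : IsReduced (Scheme.IdealSheafData.vanishingIdeal Z₀).subscheme :=
    Groth.PropsBasic2.isReduced_vanishingIdeal_subscheme _
  haveI : IsProper ((Scheme.IdealSheafData.vanishingIdeal Z₀).subschemeι ≫ i ≫ f) := by
    refine isProper_reduced f Z t (𝟙 _) _ (by simp [t]) ?_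
    rw [Scheme.Hom.id_base, TopCat.coe_id, Set.range_id, Set.preimage_univ, Set.inter_univ]
    change Set.range (i ∘ (Scheme.IdealSheafData.vanishingIdeal Z₀).subschemeι) = _
    rw [Set.range_comp, Scheme.IdealSheafData.range_subschemeι,
      Scheme.IdealSheafData.coe_support_vanishingIdeal]
    exact Set.image_preimage_eq _ i.surjective
  haveI : IsLocallyNoetherian I.subscheme := LocallyOfFiniteType.isLocallyNoetherian i
  obtain ⟨Φ, -⟩ := exists_square_iso (show q ≫ g = g₀ ≫ i from pullback.condition) L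
  refine isAmple_of_pullback_reduced (i ≫ f) g₀ Z₀ (fun z hz => ?_)
    (isInvertible_pullback i hL)
    (Groth.Chow.isAmple_of_iso Φ (Groth.Chow.isAmple_pullback_of_isAffineHom q hA))
  rcases hX (i z) hz with ⟨hd, hic⟩ | ⟨W, n, b, hzW, hb⟩
  · left
    have hbij : Function.Bijective (i.stalkMap z) := by
      refine ⟨?_, i.stalkMap_surjective z⟩
      rw [injective_iff_map_eq_zero]
      intro a ha
      obtain ⟨U, hzU, s, rfl⟩ := TopCat.Presheaf.exists_germ_eq X.presheaf (x := i z) a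
      have ha' : I.subscheme.presheaf.germ (i ⁻¹ᵁ U) z hzU (i.app U s) = 0 :=
        (Scheme.Hom.germ_stalkMap_apply i U z hzU s).symm.trans ha
      obtain ⟨W₀, hzW₀, k₁, k₂, e⟩ := TopCat.Presheaf.germ_eq I.subscheme.presheaf
        (U := i ⁻¹ᵁ U) (V := i ⁻¹ᵁ U) z hzU hzU
        (i.app U s) 0 (ha'.trans (map_zero _).symm)
      obtain ⟨O, hO, hOW⟩ := i.isClosedEmbedding.isInducing.isOpen_iff.1 W₀.isOpen
      have hzO : i z ∈ (⟨O, hO⟩ : X.Opens) := by
        change z ∈ i ⁻¹' O
        rw [hOW]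
        exact hzW₀
      obtain ⟨V, hV, hzV, hVUO⟩ := exists_isAffineOpen_mem_and_subset (x := i z)
        (U := U ⊓ ⟨O, hO⟩) ⟨hzU, hzO⟩
      have h0 : i.app V (resX X (hVUO.trans inf_le_left) s) = 0 := by
        rw [app_resX i (hVUO.trans inf_le_left) s]
        have hle : i ⁻¹ᵁ V ≤ W₀ := fun y hy => by
          have h1 : y ∈ i ⁻¹' O := (hVUO hy).2
          rwa [hOW] at h1
        rw [← resX_resX k₁.le hle]
        refine (congrArg (resX _ hle) e).trans ?_
        exact (congrArg _ (map_zero _)).trans (map_zero _)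
      have hbot : X.basicOpen (resX X (hVUO.trans inf_le_left) s) = ⊥ := by
        refine eq_bot_iff.2 fun x hx => ?_
        obtain ⟨x, rfl⟩ := i.surjective x
        have h1 : x ∈ i ⁻¹ᵁ X.basicOpen (resX X (hVUO.trans inf_le_left) s) := hx
        rw [Scheme.preimage_basicOpen, h0, Scheme.basicOpen_zero] at h1
        exact h1.elim
      have hnil := (Scheme.isNilpotent_iff_basicOpen_eq_bot_of_isCompact hV.isCompact _).2 hbot
      haveI := hd
      have h3 : X.presheaf.germ V (i z) hzV (resX X (hVUO.trans inf_le_left) s) = 0 :=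
        (hnil.map _).eq_zero
      rwa [Groth.Chow.germ_resX] at h3
    let e := RingEquiv.ofBijective (i.stalkMap z).hom hbij
    haveI := hd
    haveI := hic
    exact ⟨e.symm.toMulEquiv.isDomain, IsIntegrallyClosed.of_equiv e⟩
  · right
    obtain ⟨V, hV, hzV, hVW⟩ := exists_isAffineOpen_mem_and_subset (x := i z) (U := W) hzW
    have hbV := hb.res hVW
    haveI : Flat (g ∣_ V) := flat_restrict_of_secBasis g hV hbV
    let V₀ := i ⁻¹ᵁ V
    have hpb : IsPullback ((g₀ ⁻¹ᵁ V₀).ι ≫ q) (g₀ ∣_ V₀) g (V₀.ι ≫ i) :=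
      (isPullback_morphismRestrict g₀ V₀).flip.paste_horiz (IsPullback.of_hasPullback g i)
    let k : (g₀ ⁻¹ᵁ V₀).toScheme ⟶ (g ⁻¹ᵁ V).toScheme :=
      IsOpenImmersion.lift (g ⁻¹ᵁ V).ι ((g₀ ⁻¹ᵁ V₀).ι ≫ q) (by
        rintro _ ⟨y, rfl⟩
        rw [Scheme.Opens.range_ι]
        change g (q y.1) ∈ V
        have h2 : g (q y.1) = i (g₀ y.1) := congr($(pullback.condition (f := g) (g := i)) y.1)
        rw [h2]
        exact y.2)
    have hk : k ≫ (g ⁻¹ᵁ V).ι = (g₀ ⁻¹ᵁ V₀).ι ≫ q := IsOpenImmersion.lift_fac _ _ _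
    have hpb' : IsPullback (k ≫ (g ⁻¹ᵁ V).ι) (g₀ ∣_ V₀) g ((i ∣_ V) ≫ V.ι) := by
      rw [hk, morphismRestrict_ι]
      exact hpb
    have hsq : k ≫ g ∣_ V = g₀ ∣_ V₀ ≫ i ∣_ V := by
      rw [← cancel_mono V.ι, Category.assoc, Category.assoc, morphismRestrict_ι]
      rw [← Category.assoc, hpb'.w]
    haveI : Flat (g₀ ∣_ V₀) := MorphismProperty.of_isPullback
      (IsPullback.of_right hpb' hsq (isPullback_morphismRestrict g V).flip) inferInstance
    haveI : IsFinite (g₀ ∣_ V₀) := IsZariskiLocalAtTarget.restrict (P := @IsFinite) inferInstance _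
    haveI : IsLocallyNoetherian V₀.toScheme := LocallyOfFiniteType.isLocallyNoetherian V₀.ι
    haveI : LocallyOfFinitePresentation (g₀ ∣_ V₀) :=
      LocallyOfFinitePresentation.iff_locallyOfFiniteType.2 inferInstance
    obtain ⟨W₀, n₀, b₀, hzW₀, hb₀⟩ := exists_secBasis (g₀ ∣_ V₀)
      (Groth.RefRank.push_isFinLocFree (g₀ ∣_ V₀)) ⟨z, hzV⟩
    exact ⟨V₀.ι ''ᵁ W₀, n₀, _, ⟨⟨z, hzV⟩, hzW₀, rfl⟩, secBasis_of_restrict g₀ V₀ hb₀⟩

end Groth.AmpleFinite
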